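import Cfsg.Agent.Lib.Trans3.ConwayM24.Count
import Cfsg.Agent.Lib.Mathieu.ModOne
import Cfsg.Agent.Lib.Golay.Orbits
import Cfsg.Agent.Lib.Golay.CosetLeaders

/-!
The group as the code modulo the all-ones word: the normaliser modulo the group is `M24`.
-/

set_option autoImplicit false
set_option maxRecDepth 100000
set_option synthInstance.maxSize 2000

namespace CfsgLib.Trans3.ConwayM24

open Subgroup CfsgLib.Trans3.ExtraTwo CfsgLib.ClassK.Conway
open CfsgLib.Mathieu (Wd act wcls mcls Eq1 GoodMap)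
open CfsgLib.Golay (mword isCode mset)
open Cfsg (octads)
open scoped Pointwise

/-- A mask or zero. -/
def sw (c : ZMod 2) (g : ℕ) : ℕ := if c = 1 then g else 0

/-- The mask of an element. -/
def phim (v : Av) : ℕ :=
  sw v.1 5279 ^^^ sw v.2.1 1009728 ^^^
  sw v.2.2.1.1 1050548 ^^^ sw v.2.2.1.2.1 2130606 ^^^ sw v.2.2.1.2.2 4229001 ^^^
  sw v.2.2.2.1.1 1852256 ^^^ sw v.2.2.2.1.2.1 2220640 ^^^ sw v.2.2.2.1.2.2 4819776 ^^^
  sw v.2.2.2.2.1 5524213 ^^^ sw v.2.2.2.2.2.1 3515098 ^^^ sw v.2.2.2.2.2.2 6827971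

/-- The word of an element. -/
def psi (v : Av) : Wd := mword (phim v)

/-- The class of an element. -/
def vcls (v : Av) : ℕ := if v = 0 then 0 else if zf v then 8 else 12

theorem phim_facts : ∀ v : Av, isCode (phim v) = true ∧ mcls (phim v) = vcls v := by
  decide +kernel

theorem psi_mem (v : Av) : psi v ∈ Cfsg.golayCode := CfsgLib.Mathieu.mword_mem (phim_facts v).1

theorem wcls_psi (v : Av) : wcls (psi v) = vcls v := by
  rw [psi, CfsgLib.Mathieu.wcls_mword, (phim_facts v).2]

theorem mword_sw_add (c d : ZMod 2) (g : ℕ) :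
    mword (sw (c + d) g) = mword (sw c g) + mword (sw d g) := by
  rw [← CfsgLib.Golay.mword_xor]
  congr 1
  rcases z2_cases c with rfl | rfl <;> rcases z2_cases d with rfl | rfl <;> simp [sw] <;>
    simp [show (1 : ZMod 2) + 1 = 0 by decide]

theorem psi_add (u v : Av) : psi (u + v) = psi u + psi v := by
  simp only [psi, phim, CfsgLib.Golay.mword_xor, Prod.fst_add, Prod.snd_add, mword_sw_add]
  abel

theorem psi_zero : psi 0 = 0 := CfsgLib.Golay.mword_zero

theorem one_ne_zero_word : (1 : Wd) ≠ 0 := fun h => by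
  have := congrFun h (CfsgLib.Golay.pt 0); exact absurd this (by decide)

theorem psi_eq_zero {v : Av} (h : Eq1 (psi v) 0) : v = 0 := by
  have h1 := h.wcls_eq
  rw [wcls_psi, ← psi_zero, wcls_psi] at h1
  by_contra hv
  revert h1
  rw [vcls, if_neg hv, vcls, if_pos rfl]
  split_ifs <;> decide

theorem psi_inj {u v : Av} (h : Eq1 (psi u) (psi v)) : u = v := by
  have h0 : psi (u + v) = psi u + psi v := psi_add u v
  have h1 : u + v = 0 := psi_eq_zero (by
    rw [h0, ← psi_zero, ← av_add_self v, psi_add]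
    exact h.add (Or.inl rfl))
  calc u = u + (v + v) := by rw [av_add_self, add_zero]
    _ = v := by rw [← add_assoc, h1, zero_add]

/-- The code as the product of the group and the all-ones line. -/
noncomputable def codeEquiv : Av × ZMod 2 ≃ ↥Cfsg.golayCode :=
  Equiv.ofBijective (fun p => (⟨psi p.1 + p.2 • (1 : Wd),
      Submodule.add_mem _ (psi_mem p.1) (Submodule.smul_mem _ _ CfsgLib.Mathieu.one_mem_code)⟩ :
        ↥Cfsg.golayCode)) <| by
    refine Function.Injective.bijective_of_nat_card_le ?_ ?_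
    · rintro ⟨u, c⟩ ⟨v, d⟩ h
      have h' : psi u + c • (1 : Wd) = psi v + d • (1 : Wd) := congrArg Subtype.val h
      have huv : u = v := psi_inj (by
        rcases z2_cases c with rfl | rfl <;> rcases z2_cases d with rfl | rfl
        · simp only [zero_smul, add_zero] at h'; exact Or.inl h'
        · simp only [zero_smul, add_zero, one_smul] at h'; exact Or.inr h'
        · simp only [zero_smul, add_zero, one_smul] at h'; exact CfsgLib.Mathieu.Eq1.symm (Or.inr h'.symm)
        · simp only [one_smul] at h'; exact Or.inl (add_right_cancel h'))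
      subst huv
      have h2 := add_left_cancel h'
      rcases z2_cases c with rfl | rfl <;> rcases z2_cases d with rfl | rfl
      · rfl
      · exact absurd (by simpa using h2.symm) one_ne_zero_word
      · exact absurd (by simpa using h2) one_ne_zero_word
      · rfl
    · rw [CfsgLib.Golay.card_golayCode, Nat.card_eq_fintype_card]
      simp only [Fintype.card_prod, ZMod.card]
      norm_num

theorem codeEquiv_val (p : Av × ZMod 2) :
    ((codeEquiv p : ↥Cfsg.golayCode) : Wd) = psi p.1 + p.2 • (1 : Wd) := rfl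

theorem eq1_codeEquiv (p : Av × ZMod 2) : Eq1 ((codeEquiv p : ↥Cfsg.golayCode) : Wd) (psi p.1) := by
  rw [codeEquiv_val]
  rcases z2_cases p.2 with h | h <;> rw [h]
  · exact Or.inl (by rw [zero_smul, add_zero])
  · exact Or.inr (by rw [one_smul])

theorem exists_psi {w : Wd} (hw : w ∈ Cfsg.golayCode) : ∃ v, Eq1 w (psi v) := by
  obtain ⟨p, hp⟩ := codeEquiv.surjective ⟨w, hw⟩
  exact ⟨p.1, by have := eq1_codeEquiv p; rwa [hp] at this⟩

/-- The six octads separating the points. -/
def sepMasks : List ℕ := [13062145, 12222476, 6594610, 11010247, 1852256, 9204992]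

theorem sep_facts : (∀ m ∈ sepMasks, isCode m = true ∧ CfsgLib.Golay.pop m = 8) ∧
    ∀ i < 24, ∀ j < 24, i ≠ j → ∃ m ∈ sepMasks, m.testBit i ≠ m.testBit j := by decide +kernel

theorem perm_eq_one {σ : Equiv.Perm Cfsg.GolayPt}
    (h : ∀ w ∈ Cfsg.golayCode, Eq1 (act σ w) w) : σ = 1 := by
  refine Equiv.ext fun p => ?_
  by_contra hne
  obtain ⟨m, hm, hb⟩ := sep_facts.2 _ (CfsgLib.Golay.idx_lt p) _ (CfsgLib.Golay.idx_lt (σ p))
    (fun he => hne (CfsgLib.Golay.idx_injective he).symm)
  obtain ⟨hcode, hpop⟩ := sep_facts.1 m hm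
  have hcard : (Cfsg.support₂ (mword m)).card = 8 := by
    rw [CfsgLib.Golay.support_mword, CfsgLib.Golay.card_mset, hpop]
  rcases h _ (CfsgLib.Mathieu.mword_mem hcode) with e | e
  · have := congrFun e (σ p)
    simp only [CfsgLib.Mathieu.act, Equiv.symm_apply_apply, mword] at this
    revert hb this
    cases m.testBit (CfsgLib.Golay.idx p) <;> cases m.testBit (CfsgLib.Golay.idx (σ p)) <;> simp
  · have h24 : Fintype.card Cfsg.GolayPt = 24 := by decide +kernel
    have h1 := congrArg (fun w => (Cfsg.support₂ w).card) e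
    simp only [CfsgLib.Mathieu.support_act, Finset.card_smul_finset, CfsgLib.Mathieu.support_add_one,
      Finset.card_compl, hcard, h24] at h1
    omega

theorem perm_unique {σ τ : Equiv.Perm Cfsg.GolayPt}
    (h : ∀ v : Av, Eq1 (act σ (psi v)) (act τ (psi v))) : σ = τ := by
  refine (inv_mul_eq_one.1 (perm_eq_one (σ := τ⁻¹ * σ) fun w hw => ?_)).symm
  obtain ⟨v, hv⟩ := exists_psi hw
  have h1 := ((hv.act σ).trans (h v)).trans (hv.symm.act τ)
  have h2 := h1.act τ⁻¹
  rw [← CfsgLib.Mathieu.act_mul, ← CfsgLib.Mathieu.act_mul, inv_mul_cancel,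
    CfsgLib.Mathieu.act_one] at h2
  exact h2

theorem orbit_of_wcls {u w : Wd} (hu : u ∈ Cfsg.golayCode) (hw : w ∈ Cfsg.golayCode)
    (h : wcls u = wcls w) : ∃ σ ∈ Cfsg.M24, Eq1 w (act σ u) := by
  obtain ⟨a, ha⟩ := exists_psi hu
  obtain ⟨b, hb⟩ := exists_psi hw
  have h8 : ∀ x ∈ Cfsg.golayCode, wcls x = 8 → ∃ y, Eq1 x y ∧ Cfsg.support₂ y ∈ octads := by
    intro x hx hc
    obtain ⟨m, hm, rfl⟩ := CfsgLib.Mathieu.eq_zero_or_mword x
    have hmc := (CfsgLib.Golay.mword_mem_iff hm).1 hx
    have hx1 : isCode (16777215 ^^^ m) = true :=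
      CfsgLib.Golay.isCode_xor CfsgLib.Golay.isCode_full hmc
    rw [CfsgLib.Mathieu.wcls_mword] at hc
    rcases CfsgLib.Golay.isCode_weights hmc with h0 | h0 | h0 | h0 | h0
    all_goals rw [mcls, h0] at hc
    all_goals first
      | exact absurd hc (by decide)
      | exact ⟨mword m, Or.inl rfl, by
          rw [CfsgLib.Golay.support_mword]
          exact CfsgLib.Golay.mem_octads_iff.2 ⟨m, CfsgLib.Golay.mem_octList.2 ⟨hmc, h0⟩, rfl⟩⟩
      | refine ⟨mword m + 1, CfsgLib.Mathieu.Eq1.symm (Or.inr rfl), ?_⟩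
        rw [CfsgLib.Mathieu.support_add_one, CfsgLib.Golay.support_mword,
          ← CfsgLib.Mathieu.mset_compl]
        refine CfsgLib.Golay.mem_octads_iff.2
          ⟨_, CfsgLib.Golay.mem_octList.2 ⟨hx1, ?_⟩, rfl⟩
        rw [← CfsgLib.Golay.card_mset, CfsgLib.Mathieu.mset_compl, Finset.card_compl,
          CfsgLib.Golay.card_mset, h0]
        decide +kernel
  have h12 : ∀ x ∈ Cfsg.golayCode, wcls x = 12 → Cfsg.support₂ x ∈ Cfsg.dodecads := by
    intro x hx hc
    obtain ⟨m, hm, rfl⟩ := CfsgLib.Mathieu.eq_zero_or_mword x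
    have hmc := (CfsgLib.Golay.mword_mem_iff hm).1 hx
    rw [CfsgLib.Mathieu.wcls_mword] at hc
    have h0 : CfsgLib.Golay.pop m = 12 := by
      rcases CfsgLib.Golay.isCode_weights hmc with h0 | h0 | h0 | h0 | h0
      all_goals first
        | exact h0
        | (rw [mcls, h0] at hc; exact absurd hc (by decide))
    rw [CfsgLib.Golay.support_mword]
    exact CfsgLib.Golay.mem_dodecads_iff.2 ⟨m, CfsgLib.Golay.mem_dodList.2 ⟨hmc, h0⟩, rfl⟩
  have hmove : ∀ {x y : Wd} (g : ↥Cfsg.M24), g • Cfsg.support₂ x = Cfsg.support₂ y →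
      y = act (g : Equiv.Perm Cfsg.GolayPt) x := fun {x y} g hg =>
    CfsgLib.Golay.support₂_injective (by rw [CfsgLib.Mathieu.support_act, ← hg]; rfl)
  have ca : wcls u = vcls a := by rw [ha.wcls_eq, wcls_psi]
  by_cases ha0 : a = 0
  · have hb0 : b = 0 := by
      by_contra hne
      rw [ca, hb.wcls_eq, wcls_psi, vcls, if_pos ha0, vcls, if_neg hne] at h
      revert h
      split_ifs <;> decide
    refine ⟨1, one_mem _, ?_⟩
    rw [CfsgLib.Mathieu.act_one]
    rw [ha0] at ha; rw [hb0] at hb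
    exact hb.trans ha.symm
  rw [vcls, if_neg ha0] at ca
  by_cases hz : zf a = true
  · rw [if_pos hz] at ca
    obtain ⟨x, hx, hx'⟩ := h8 u hu ca
    obtain ⟨y, hy, hy'⟩ := h8 w hw (h ▸ ca)
    obtain ⟨g, hg⟩ := CfsgLib.Golay.M24_trans_octads hx' hy'
    refine ⟨g, g.2, hy.trans ?_⟩
    rw [hmove g hg]
    exact hx.symm.act _
  · rw [if_neg hz] at ca
    obtain ⟨g, hg⟩ := CfsgLib.Golay.M24_trans_dodecads (h12 u hu ca) (h12 w hw (h ▸ ca))
    exact ⟨g, g.2, Or.inl (hmove g hg)⟩

variable {G : Type*} [Group G] {z : G} {Q : Subgroup G} {e : ↥Q ≃* ES 4 (ff 4)} {ρ : G}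
variable [Finite G] (S : Std z e ρ)
include S

theorem conj_exists {n : G} (hn : n ∈ NA S) (v : Av) :
    ∃ w, iota S w = n * iota S v * n⁻¹ :=
  (mem_AA S).1 ((mem_normalizer_iff.1 hn _).1 ⟨v, rfl⟩)

/-- The map induced on coordinates. -/
noncomputable def nmap (n : ↥(NA S)) (v : Av) : Av := (conj_exists S n.2 v).choose

theorem nmap_spec (n : ↥(NA S)) (v : Av) :
    iota S (nmap S n v) = (n : G) * iota S v * (n : G)⁻¹ := (conj_exists S n.2 v).choose_spec

theorem nmap_eq {n : ↥(NA S)} {v w : Av} (h : (n : G) * iota S v * (n : G)⁻¹ = iota S w) :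
    nmap S n v = w := iota_injective S ((nmap_spec S n v).trans h)

theorem nmap_add (n : ↥(NA S)) (u v : Av) :
    nmap S n (u + v) = nmap S n u + nmap S n v := by
  refine nmap_eq S ?_
  rw [← iota_mul, ← iota_mul, nmap_spec, nmap_spec]; group

theorem nmap_zero (n : ↥(NA S)) : nmap S n 0 = 0 :=
  nmap_eq S (by rw [iota_zero, mul_one, mul_inv_cancel])

theorem nmap_vcls (n : ↥(NA S)) (v : Av) : vcls (nmap S n v) = vcls v := by
  have hinj : nmap S n v = 0 ↔ v = 0 := by
    constructor
    · intro h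
      have h' := nmap_spec S n v
      rw [h, iota_zero, eq_comm, conj_eq_one_iff] at h'
      exact iota_eq_one S h'
    · rintro rfl; exact nmap_zero S n
  have hz : zf (nmap S n v) = true ↔ zf v = true := by
    rw [← isConj_iff_zf S, ← isConj_iff_zf S, nmap_spec]
    exact ⟨fun h => h.trans (isConj_iff.2 ⟨(n : G), rfl⟩).symm,
      fun h => h.trans (isConj_iff.2 ⟨(n : G), rfl⟩)⟩
  simp only [vcls, hinj, hz]

theorem exists_perm (n : ↥(NA S)) :
    ∃ σ ∈ Cfsg.M24, ∀ v, Eq1 (psi (nmap S n v)) (act σ (psi v)) := by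
  let T : ↥Cfsg.golayCode → Wd := fun c =>
    psi (nmap S n (codeEquiv.symm c).1) + (codeEquiv.symm c).2 • (1 : Wd)
  have hadd : ∀ c d : ↥Cfsg.golayCode,
      codeEquiv.symm (c + d) = codeEquiv.symm c + codeEquiv.symm d := fun c d => by
    refine codeEquiv.symm_apply_eq.2 (Subtype.ext ?_)
    obtain ⟨p, rfl⟩ := codeEquiv.surjective c
    obtain ⟨q, rfl⟩ := codeEquiv.surjective d
    rw [Equiv.symm_apply_apply, Equiv.symm_apply_apply, Submodule.coe_add, codeEquiv_val,
      codeEquiv_val, codeEquiv_val, Prod.fst_add, Prod.snd_add, psi_add, add_smul]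
    abel
  have hT : GoodMap T :=
    { add := fun c d => by
        show psi (nmap S n (codeEquiv.symm (c + d)).1) + (codeEquiv.symm (c + d)).2 • (1 : Wd) = _
        rw [hadd, Prod.fst_add, Prod.snd_add, nmap_add, psi_add, add_smul]
        show _ = psi (nmap S n (codeEquiv.symm c).1) + (codeEquiv.symm c).2 • (1 : Wd) +
          (psi (nmap S n (codeEquiv.symm d).1) + (codeEquiv.symm d).2 • (1 : Wd))
        abel
      one := fun c hc => by
        have h1 : codeEquiv.symm c = (0, 1) := codeEquiv.symm_apply_eq.2 (Subtype.ext (by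
          rw [codeEquiv_val, psi_zero, zero_add, one_smul, hc]))
        show psi (nmap S n (codeEquiv.symm c).1) + (codeEquiv.symm c).2 • (1 : Wd) = 1
        rw [h1, nmap_zero, psi_zero, zero_add, one_smul]
      orb := fun c => by
        obtain ⟨p, rfl⟩ := codeEquiv.surjective c
        have hmem : T (codeEquiv p) ∈ Cfsg.golayCode :=
          (codeEquiv (nmap S n (codeEquiv.symm (codeEquiv p)).1,
            (codeEquiv.symm (codeEquiv p)).2)).2
        have h1 : Eq1 (T (codeEquiv p)) (psi (nmap S n p.1)) := by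
          show Eq1 (psi (nmap S n (codeEquiv.symm (codeEquiv p)).1) +
            (codeEquiv.symm (codeEquiv p)).2 • (1 : Wd)) _
          rw [Equiv.symm_apply_apply]
          exact eq1_codeEquiv (nmap S n p.1, p.2)
        refine orbit_of_wcls (codeEquiv p).2 hmem ?_
        rw [h1.wcls_eq, (eq1_codeEquiv p).wcls_eq, wcls_psi, wcls_psi, nmap_vcls] }
  obtain ⟨σ, hσ, h⟩ := CfsgLib.Mathieu.goodMap_agrees hT
  refine ⟨σ, hσ, fun v => ?_⟩
  have h' := h (codeEquiv (v, 0))
  simp only [T, Equiv.symm_apply_apply, codeEquiv_val, zero_smul, add_zero] at h'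
  exact h'

/-- The permutation induced by an element of the normaliser. -/
noncomputable def permOfN : ↥(NA S) →* ↥Cfsg.M24 :=
  MonoidHom.mk' (fun n => ⟨(exists_perm S n).choose, (exists_perm S n).choose_spec.1⟩) fun m n =>
    Subtype.ext (perm_unique fun v => by
      have h := (exists_perm S (m * n)).choose_spec.2 v
      have hm := (exists_perm S m).choose_spec.2 (nmap S n v)
      have hn := (exists_perm S n).choose_spec.2 v
      rw [show nmap S (m * n) v = nmap S m (nmap S n v) from nmap_eq S (by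
        rw [nmap_spec, nmap_spec, Subgroup.coe_mul]; group)] at h
      refine h.symm.trans (hm.trans ?_)
      rw [Subgroup.coe_mul, CfsgLib.Mathieu.act_mul]
      exact hn.act _)

theorem permOfN_spec (n : ↥(NA S)) (v : Av) :
    Eq1 (psi (nmap S n v)) (act (permOfN S n : Equiv.Perm Cfsg.GolayPt) (psi v)) :=
  (exists_perm S n).choose_spec.2 v

theorem permOfN_ker : (permOfN S).ker = (AA S).subgroupOf (NA S) := by
  ext n
  rw [MonoidHom.mem_ker, mem_subgroupOf]
  constructor
  · intro h
    refine cent_AA S (mem_centralizer_iff.2 ?_)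
    rintro _ ⟨v, rfl⟩
    have hv : nmap S n v = v := psi_inj (by
      have := permOfN_spec S n v
      rwa [h, OneMemClass.coe_one, CfsgLib.Mathieu.act_one] at this)
    have h' := nmap_spec S n v
    rw [hv] at h'
    exact eq_mul_inv_iff_mul_eq.1 h'
  · intro h
    obtain ⟨w, hw⟩ := (mem_AA S).1 h
    refine Subtype.ext (perm_unique fun v => ?_)
    have hv : nmap S n v = v := nmap_eq S (by
      rw [← hw, iota_inv, iota_mul, iota_mul, add_comm w v, add_assoc, av_add_self, add_zero])
    have := permOfN_spec S n v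
    rw [hv] at this
    rw [OneMemClass.coe_one, CfsgLib.Mathieu.act_one]
    exact this.symm

theorem A_normal : ((AA S).subgroupOf (NA S)).Normal := by
  rw [← permOfN_ker S]; infer_instance

theorem permOfN_surjective : Function.Surjective (permOfN S) := by
  have hA : Nat.card ((AA S).subgroupOf (NA S)) = 2 ^ 11 := by
    rw [Nat.card_congr (Subgroup.subgroupOfEquivOfLe (H := AA S) (K := NA S) Subgroup.le_normalizer).toEquiv, card_AA]
  have h := Subgroup.card_eq_card_quotient_mul_card_subgroup (permOfN S).ker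
  rw [Nat.card_congr (QuotientGroup.quotientKerEquivRange (permOfN S)).toEquiv] at h
  rw [permOfN_ker S, hA] at h
  have hle := card_NA_ge S
  rw [h, mul_comm (Nat.card _) (2 ^ 11)] at hle
  have h2 : 244823040 ≤ Nat.card (permOfN S).range := Nat.le_of_mul_le_mul_left hle (by norm_num)
  rw [← CfsgLib.Golay.card_M24] at h2
  rw [← MonoidHom.range_eq_top]
  exact Subgroup.eq_top_of_le_card _ h2

/-- Two orbits. -/
theorem exists_move_class {u w : Av} (h : vcls u = vcls w) :
    ∃ n ∈ NA S, n * iota S u * n⁻¹ = iota S w := by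
  obtain ⟨σ, hσ, hs⟩ := orbit_of_wcls (psi_mem u) (psi_mem w) (by rw [wcls_psi, wcls_psi, h])
  obtain ⟨n, hn⟩ := permOfN_surjective S ⟨σ, hσ⟩
  refine ⟨n, n.2, ?_⟩
  have h1 := permOfN_spec S n u
  rw [hn] at h1
  rw [← psi_inj (h1.trans hs.symm), nmap_spec]

end CfsgLib.Trans3.ConwayM24
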