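import Cfsg.Agent.Lib.Trans3.ConwayM24.Code
import Mathlib.GroupTheory.SchurZassenhaus
import Mathlib.GroupTheory.Sylow
import Cfsg.Agent.S4217

/-!
A two-subgroup of the normaliser meeting the group trivially, and the complement.
-/

set_option autoImplicit false
set_option maxRecDepth 20000
set_option synthInstance.maxSize 2000

namespace CfsgLib.Trans3.ConwayM24

open Subgroup CfsgLib.Trans3.ExtraTwo CfsgLib.ClassK.Conway

/-- The maps of the dihedral group of order eight on the two planes. -/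
def sigD (p : V) (v : Sp 3) : Sp 3 :=
  pr ((px v).1 + p.1 * (px v).2.1 + (p.2.2 + p.1 * p.2.1) * (px v).2.2,
      (px v).2.1 + p.2.1 * (px v).2.2, (px v).2.2)
    ((py v).1, (py v).2.1 + p.1 * (py v).1, (py v).2.2 + p.2.1 * (py v).2.1 + p.2.2 * (py v).1)

theorem sigD_zero : ∀ v, sigD 0 v = v := by decide +kernel

theorem sigD_A : ∀ v, sigA v = sigD E1 v := by decide +kernel

theorem sigD_B : ∀ v, sigB v = sigD E2 v := by decide +kernel

theorem sigD_closed : ∀ p q : V, ∃ r : V, ∀ v, sigD p (sigD q v) = sigD r v := by decide +kernel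

theorem sigD_word : ∀ c : V, ∀ v,
    sigD (c.1, 0, 0) (sigD (0, c.2.1, 0) (sigD (0, 0, c.2.2) v)) = sigD c v := by decide +kernel

theorem sigD_center : ∀ v, sigA (sigB (sigA (sigB v))) = sigD E3 v := by decide +kernel

theorem sigD_inj : ∀ p q : V, (∀ v, sigD p v = sigD q v) → p = q := by
  intro p q h
  have h1 := h (pr 0 E1)
  have h2 := h (pr 0 E2)
  revert h1 h2
  revert p q
  decide +kernel

theorem sigD_planes : ∀ p x : V, py (sigD p (pr x 0)) = 0 ∧ px (sigD p (pr 0 x)) = 0 := by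
  decide +kernel

theorem sigD_meet : ∀ p m : V, (∀ y : V, px (sigR m (pr 0 y)) = 0) → m = 0 := by decide +kernel

variable {G : Type*} [Group G] {z : G} {Q : Subgroup G} {e : ↥Q ≃* ES 4 (ff 4)} {ρ : G}
variable [Finite G] (S : Std z e ρ)
include S

/-- The dihedral group of order eight in the complement. -/
def DD : Subgroup G where
  carrier := {l | Lev z e ρ l ∧ (∃ p, ∀ v, sig e l v = sigD p v) ∧ ∀ y, kf e l (pr 0 y) = 0}
  one_mem' := ⟨⟨⟨by simp, by simp⟩, by simp⟩, ⟨0, fun v => by rw [sig_one S, sigD_zero]⟩,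
    fun y => kf_one S.tri _⟩
  mul_mem' := by
    rintro l m ⟨hl, ⟨p, hp⟩, kl⟩ ⟨hm, ⟨q, hq⟩, km⟩
    obtain ⟨r, hr⟩ := sigD_closed p q
    refine ⟨hl.mul hm, ⟨r, fun v => by rw [S.tri.sig_mul hl.1 hm.1, hq, hp, hr]⟩, fun y => ?_⟩
    rw [kf_mul S.tri hl hm, km, hq, zero_add, ← pr_px_py (sigD q (pr 0 y)), (sigD_planes q y).2, kl]
  inv_mem' := by
    rintro l ⟨hl, ⟨p, hp⟩, kl⟩
    obtain ⟨n, hn⟩ : ∃ n, l⁻¹ = l ^ n := ⟨orderOf l - 1, by
      rw [inv_eq_of_mul_eq_one_right]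
      rw [← pow_succ', Nat.sub_add_cancel (orderOf_pos l), pow_orderOf_eq_one]⟩
    rw [hn]
    clear hn
    induction n with
    | zero =>
      exact ⟨⟨⟨by simp, by simp⟩, by simp⟩, ⟨0, fun v => by rw [pow_zero, sig_one S, sigD_zero]⟩,
        fun y => by rw [pow_zero]; exact kf_one S.tri _⟩
    | succ n ih =>
      obtain ⟨hl', ⟨q, hq⟩, kl'⟩ := ih
      obtain ⟨r, hr⟩ := sigD_closed q p
      rw [pow_succ]
      refine ⟨hl'.mul hl, ⟨r, fun v => by rw [S.tri.sig_mul hl'.1 hl.1, hp, hq, hr]⟩, fun y => ?_⟩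
      rw [kf_mul S.tri hl' hl, kl, hp, zero_add, ← pr_px_py (sigD p (pr 0 y)), (sigD_planes p y).2,
        kl']

theorem exists_DD (c : V) : ∃ l ∈ DD S, ∀ v, sig e l v = sigD c v := by
  have ha : S.sA ∈ DD S := ⟨S.hA, ⟨E1, fun v => by rw [S.ssA, sigD_A]⟩, S.kA⟩
  have hb : S.sB ∈ DD S := ⟨S.hB, ⟨E2, fun v => by rw [S.ssB, sigD_B]⟩, S.kB⟩
  have h1 : ∀ k : ZMod 2, ∃ l ∈ DD S, ∀ v, sig e l v = sigD (k, 0, 0) v := fun k => by
    rcases z2_cases k with rfl | rfl
    · exact ⟨1, one_mem _, fun v => by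
        rw [sig_one S, show ((0, 0, 0) : V) = 0 from rfl, sigD_zero]⟩
    · exact ⟨S.sA, ha, fun v => by rw [S.ssA, sigD_A]; rfl⟩
  have h2 : ∀ k : ZMod 2, ∃ l ∈ DD S, ∀ v, sig e l v = sigD (0, k, 0) v := fun k => by
    rcases z2_cases k with rfl | rfl
    · exact ⟨1, one_mem _, fun v => by
        rw [sig_one S, show ((0, 0, 0) : V) = 0 from rfl, sigD_zero]⟩
    · exact ⟨S.sB, hb, fun v => by rw [S.ssB, sigD_B]; rfl⟩
  have h3 : ∀ k : ZMod 2, ∃ l ∈ DD S, ∀ v, sig e l v = sigD (0, 0, k) v := fun k => by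
    rcases z2_cases k with rfl | rfl
    · exact ⟨1, one_mem _, fun v => by
        rw [sig_one S, show ((0, 0, 0) : V) = 0 from rfl, sigD_zero]⟩
    · refine ⟨S.sA * (S.sB * (S.sA * S.sB)), mul_mem ha (mul_mem hb (mul_mem ha hb)), fun v => ?_⟩
      rw [S.tri.sig_mul S.hA.1 (S.hB.1.mul (S.hA.1.mul S.hB.1)),
        S.tri.sig_mul S.hB.1 (S.hA.1.mul S.hB.1), S.tri.sig_mul S.hA.1 S.hB.1,
        S.ssA, S.ssB, S.ssA, S.ssB, sigD_center]
      rfl
  obtain ⟨l1, m1, s1⟩ := h1 c.1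
  obtain ⟨l2, m2, s2⟩ := h2 c.2.1
  obtain ⟨l3, m3, s3⟩ := h3 c.2.2
  refine ⟨l1 * (l2 * l3), mul_mem m1 (mul_mem m2 m3), fun v => ?_⟩
  rw [S.tri.sig_mul m1.1.1 (m2.1.mul m3.1).1, S.tri.sig_mul m2.1.1 m3.1.1, s3, s2, s1, sigD_word]

theorem DD_le : DD S ≤ NA S := by
  rintro l ⟨hl, ⟨p, hp⟩, -⟩
  exact lev_mem_NA S hl (fun b => px (sigD p (pr b 0))) fun b => by
    rw [hp]; conv_lhs => rw [← pr_px_py (sigD p (pr b 0)), (sigD_planes p b).1]

/-- An element of the second plane of the radical. -/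
def wn (_ : Std z e ρ) (a b : V) : G := nm z e ρ 0 0 (pr 0 a) (pr 0 b)

theorem wn_mul (a b c d : V) : wn S a b * wn S c d = wn S (a + c) (b + d) := by
  rw [wn, wn, wn, S.tri.nm_mul]
  simp only [alt_pr, beta_pr, dot_zero_left, pr_add, add_zero]

theorem q_wn (a b : V) : qe e * wn S a b = wn S a (a + b) * qe e := by
  have h := S.tri.nm_q 0 0 (pr 0 a) (pr 0 b)
  simp only [qd_pr, beta_pr, dot_zero_left, add_zero, pr_add] at h
  rw [wn, wn, ← h, mul_assoc _ (qe e) (qe e), S.tri.q_sq, mul_one]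

theorem DD_wn {l : G} (hl : l ∈ DD S) (a b : V) : ∃ a' b', l * wn S a b = wn S a' b' * l := by
  obtain ⟨hl, ⟨p, hp⟩, hk⟩ := hl
  refine ⟨py (sigD p (pr 0 a)), py (sigD p (pr 0 b)), ?_⟩
  rw [← mul_inv_eq_iff_eq_mul, wn, lev_nm S.tri hl, hk, hk, hp, hp, add_zero, wn]
  rfl

theorem q_DD {l : G} (hl : l ∈ DD S) (t : ZMod 2) : pw (qe e) t * l = l * pw (qe e) t :=
  (pw_comm (S.tri.lev_q hl.1).symm t).symm

/-- The two-group. -/
def KK : Subgroup G where
  carrier := {g | ∃ a b t, ∃ l ∈ DD S, g = wn S a b * pw (qe e) t * l}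
  one_mem' := ⟨0, 0, 0, 1, one_mem _, by
    rw [wn, pr_zero, S.tri.nm_one, pw_zero, one_mul, one_mul]⟩
  mul_mem' := by
    rintro _ _ ⟨a, b, t, l, hl, rfl⟩ ⟨c, d, s, m, hm, rfl⟩
    obtain ⟨c', d', hcd⟩ := DD_wn S hl c d
    obtain ⟨c'', d'', hq⟩ : ∃ c'' d'', pw (qe e) t * wn S c' d' = wn S c'' d'' * pw (qe e) t := by
      rcases z2_cases t with rfl | rfl
      · exact ⟨c', d', by simp [pw_zero]⟩
      · exact ⟨c', c' + d', by rw [pw_one, q_wn]⟩
    refine ⟨a + c'', b + d'', t + s, l * m, mul_mem hl hm, ?_⟩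
    rw [← wn_mul, pw_add S.tri.q_sq]
    calc wn S a b * pw (qe e) t * l * (wn S c d * pw (qe e) s * m)
        = wn S a b * pw (qe e) t * (l * wn S c d) * pw (qe e) s * m := by group
      _ = wn S a b * (pw (qe e) t * wn S c' d') * (l * pw (qe e) s) * m := by rw [hcd]; group
      _ = _ := by rw [hq, ← q_DD S hl]; group
  inv_mem' := by
    rintro _ ⟨a, b, t, l, hl, rfl⟩
    have hti : (pw (qe e) t)⁻¹ = pw (qe e) t := by
      rcases z2_cases t with rfl | rfl
      · rw [pw_zero, inv_one]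
      · rw [pw_one, q_inv S]
    have hwi : (wn S a b)⁻¹ = wn S a b := inv_eq_of_mul_eq_one_right (by
      rw [wn_mul, v_add_self, v_add_self, wn, pr_zero, S.tri.nm_one])
    obtain ⟨c, d, hcd⟩ := DD_wn S (inv_mem hl) a b
    obtain ⟨c', d', hq⟩ : ∃ c' d', pw (qe e) t * wn S c d = wn S c' d' * pw (qe e) t := by
      rcases z2_cases t with rfl | rfl
      · exact ⟨c, d, by simp [pw_zero]⟩
      · exact ⟨c, c + d, by rw [pw_one, q_wn]⟩
    refine ⟨c', d', t, l⁻¹, inv_mem hl, ?_⟩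
    rw [mul_inv_rev, mul_inv_rev, hti, hwi, ← mul_assoc, ← q_DD S (inv_mem hl), mul_assoc,
      mul_assoc, hcd, ← mul_assoc, hq, mul_assoc]

theorem q_not_CE : ¬ CE z e (qe e) := fun h => by
  have hx := S.tri.setup.xe_facts
  have h2 := hx.2.2.2.2.2.2
  rw [h.2, mul_assoc, S.tri.q_sq, mul_one] at h2
  exact S.tri.setup.pack.z_ne (left_eq_mul.1 h2)

theorem KK_le : KK S ≤ NA S := by
  rintro _ ⟨a, b, t, l, hl, rfl⟩
  refine mul_mem (mul_mem (nm_mem_NA S _ _ _ _) ?_) (DD_le S hl)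
  rcases z2_cases t with rfl | rfl
  · rw [pw_zero]; exact one_mem _
  · rw [pw_one]; exact q_mem_NA S

theorem KK_unique {a b a' b' : V} {t t' : ZMod 2} {l l' : G} (hl : l ∈ DD S) (hl' : l' ∈ DD S)
    (h : wn S a b * pw (qe e) t * l = wn S a' b' * pw (qe e) t' * l') :
    a = a' ∧ b = b' ∧ t = t' ∧ l = l' := by
  have ht : t = t' := by
    by_contra hne
    have hq : CE z e (qe e) := by
      have hw : ∀ a b, CE z e (wn S a b) := fun a b => S.tri.nm_ce _ _ _ _
      rcases z2_cases t with rfl | rfl <;> rcases z2_cases t' with rfl | rfl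
      · exact absurd rfl hne
      · rw [pw_zero, pw_one, mul_one] at h
        have : qe e = (wn S a' b')⁻¹ * (wn S a b * l) * l'⁻¹ := by rw [h]; group
        rw [this]
        exact ((hw _ _).inv.mul ((hw _ _).mul hl.1.1)).mul hl'.1.1.inv
      · rw [pw_zero, pw_one, mul_one] at h
        have : qe e = (wn S a b)⁻¹ * (wn S a' b' * l') * l⁻¹ := by rw [← h]; group
        rw [this]
        exact ((hw _ _).inv.mul ((hw _ _).mul hl'.1.1)).mul hl.1.1.inv
      · exact absurd rfl hne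
    exact q_not_CE S hq
  subst ht
  obtain ⟨hl1, ⟨p, hp⟩, -⟩ := hl
  obtain ⟨hl1', ⟨p', hp'⟩, -⟩ := hl'
  have e0 : wn S a b * pw (qe e) t * l = wn S a b * l * pw (qe e) t := by
    rw [mul_assoc, ← pw_comm (S.tri.lev_q hl1).symm, ← mul_assoc]
  have e1 : wn S a' b' * pw (qe e) t * l' = wn S a' b' * l' * pw (qe e) t := by
    rw [mul_assoc, ← pw_comm (S.tri.lev_q hl1').symm, ← mul_assoc]
  rw [e0, e1] at h
  have h' := mul_right_cancel h
  have hll : l = l' := S.tri.lev_ext hl1 hl1' fun v => by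
    have := congrArg (fun g => sig e g v) h'
    simp only [wn, S.tri.sig_mul (S.tri.nm_ce _ _ _ _) hl1.1,
      S.tri.sig_mul (S.tri.nm_ce _ _ _ _) hl1'.1, S.tri.sig_nm] at this
    exact this
  subst hll
  obtain ⟨-, -, h3, h4⟩ := S.tri.nm_inj (mul_right_cancel h')
  exact ⟨(pr_inj h3).2, (pr_inj h4).2, rfl, rfl⟩

theorem card_KK : Nat.card ↥(KK S) = 2 ^ 10 := by
  have hD : ∀ c : V, ∃ l : ↥(DD S), ∀ v, sig e (l : G) v = sigD c v := fun c => by
    obtain ⟨l, hl, hs⟩ := exists_DD S c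
    exact ⟨⟨l, hl⟩, hs⟩
  choose lD hlD using hD
  let f : V × V × ZMod 2 × V → ↥(KK S) := fun q =>
    ⟨wn S q.1 q.2.1 * pw (qe e) q.2.2.1 * lD q.2.2.2, q.1, q.2.1, q.2.2.1, _, (lD q.2.2.2).2, rfl⟩
  have hf : Function.Bijective f := by
    refine ⟨?_, ?_⟩
    · rintro ⟨a, b, t, c⟩ ⟨a', b', t', c'⟩ h
      obtain ⟨r1, r2, r3, r4⟩ := KK_unique S (lD c).2 (lD c').2 (congrArg Subtype.val h)
      subst r1 r2 r3
      have : c = c' := sigD_inj c c' fun v => by rw [← hlD, ← hlD, r4]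
      rw [this]
    · rintro ⟨g, a, b, t, l, hl, rfl⟩
      obtain ⟨hl1, ⟨p, hp⟩, hk⟩ := hl
      refine ⟨(a, b, t, p), Subtype.ext ?_⟩
      show _ * (lD p : G) = _
      rw [S.tri.lev_ext (lD p).2.1 hl1 fun v => by rw [hlD, hp]]
  rw [← Nat.card_congr (Equiv.ofBijective f hf)]
  simp only [Nat.card_eq_fintype_card, Fintype.card_prod, ZMod.card]
  norm_num

theorem KK_inf : KK S ⊓ AA S = ⊥ := by
  rw [eq_bot_iff]
  rintro g ⟨⟨a, b, t, l, hl, rfl⟩, v, hv⟩
  obtain ⟨hl1, ⟨p, hp⟩, -⟩ := hl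
  have ht : t = 0 := by
    refine (z2_cases t).resolve_right fun ht => q_not_CE S ?_
    subst ht
    have : qe e = (wn S a b)⁻¹ * iota S v * l⁻¹ := by
      rw [hv, pw_one]; group
    rw [this]
    exact ((S.tri.nm_ce _ _ _ _).inv.mul (iota_ce S v)).mul hl1.1.inv
  subst ht
  rw [pw_zero, mul_one] at hv ⊢
  have hs : ∀ w, sigR v.2.2.2.2 w = sigD p w := fun w => by
    rw [← sig_iota S, hv, wn, S.tri.sig_mul (S.tri.nm_ce _ _ _ _) hl1.1, S.tri.sig_nm, hp]
  have hm : v.2.2.2.2 = 0 := sigD_meet p _ fun y => by rw [hs]; exact (sigD_planes p y).2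
  have hl0 : l = 1 := S.tri.lev_trivial hl1 fun w => by rw [hp, ← hs, hm, sigR_zero]
  subst hl0
  obtain ⟨i, j, c, d, m⟩ := v
  simp only at hm
  subst hm
  rw [iota, r_zero, mul_one, mul_one, wn] at hv
  obtain ⟨-, -, h3, h4⟩ := S.tri.nm_inj hv
  rw [mul_one, wn, ← (pr_inj h3).2, ← (pr_inj h4).2, pr_zero, S.tri.nm_one]
  exact one_mem _

theorem card_NA : Nat.card ↥(NA S) = 2 ^ 11 * 244823040 := by
  have h := Subgroup.card_eq_card_quotient_mul_card_subgroup (permOfN S).ker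
  rw [Nat.card_congr (QuotientGroup.quotientKerEquivOfSurjective _ (permOfN_surjective S)).toEquiv,
    permOfN_ker S, CfsgLib.Golay.card_M24,
    Nat.card_congr (Subgroup.subgroupOfEquivOfLe (H := AA S) (K := NA S)
      Subgroup.le_normalizer).toEquiv, card_AA] at h
  rw [h, mul_comm]

/-- The extension splits. -/
theorem exists_complement :
    ∃ K : Subgroup ↥(NA S), ((AA S).subgroupOf (NA S)).IsComplement' K := by
  have := A_normal S
  set A := (AA S).subgroupOf (NA S) with hA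
  have hcard : Nat.card A = 2 ^ 11 := by
    rw [hA, Nat.card_congr (Subgroup.subgroupOfEquivOfLe (H := AA S) (K := NA S)
      Subgroup.le_normalizer).toEquiv, card_AA]
  have hcomm : IsMulCommutative A := ⟨⟨fun a b => Subtype.ext (Subtype.ext (by
    obtain ⟨u, hu⟩ := (mem_AA S).1 (mem_subgroupOf.1 a.2)
    obtain ⟨w, hw⟩ := (mem_AA S).1 (mem_subgroupOf.1 b.2)
    simp only [Subgroup.coe_mul, ← hu, ← hw, iota_mul, add_comm]))⟩⟩
  have hind : A.index = 244823040 := by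
    have := A.card_mul_index
    rw [hcard, card_NA S] at this
    exact mul_left_cancel₀ (by norm_num) this
  suffices h : ∃ K : Subgroup ↥(NA S), K.IsComplement' A by
    obtain ⟨K, hK⟩ := h; exact ⟨K, hK.symm⟩
  refine (Cfsg.Agent.S4217.result A hcomm).2 fun p hp hpd => ?_
  have : Fact p.Prime := ⟨hp⟩
  by_cases hp2 : p = 2
  · subst hp2
    set K := (KK S).subgroupOf (NA S) with hK
    have hKA : K ⊓ A = ⊥ := by
      rw [hK, hA, eq_bot_iff]
      rintro x ⟨hx1, hx2⟩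
      have : (x : G) ∈ KK S ⊓ AA S := ⟨hx1, hx2⟩
      rw [KK_inf S, mem_bot] at this
      exact mem_bot.2 (Subtype.ext this)
    have hKc : Nat.card K = 2 ^ 10 := by
      rw [hK, Nat.card_congr (Subgroup.subgroupOfEquivOfLe (KK_le S)).toEquiv, card_KK]
    have hinj : Function.Injective ((QuotientGroup.mk' A).subgroupMap K) := by
      rintro ⟨x, hx⟩ ⟨y, hy⟩ h
      have h' : (QuotientGroup.mk x : ↥(NA S) ⧸ A) = QuotientGroup.mk y := congrArg Subtype.val h
      have : x⁻¹ * y ∈ K ⊓ A := ⟨K.mul_mem (K.inv_mem hx) hy, QuotientGroup.eq.1 h'⟩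
      rw [hKA, mem_bot, inv_mul_eq_one] at this
      exact Subtype.ext this
    have hmap : Nat.card (K.map (QuotientGroup.mk' A)) = 2 ^ 10 := by
      rw [← hKc, Nat.card_congr (Equiv.ofBijective _
        ⟨hinj, MonoidHom.subgroupMap_surjective _ _⟩)]
    have hfac : (Nat.card (↥(NA S) ⧸ A)).factorization 2 = 10 := by
      rw [← Subgroup.index_eq_card, hind, show 244823040 = 2 ^ 10 * 239085 by norm_num,
        Nat.factorization_mul_apply_of_coprime (by norm_num), Nat.Prime.factorization_pow Nat.prime_two,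
        Nat.factorization_eq_zero_of_not_dvd (show ¬ 2 ∣ 239085 by norm_num)]
      simp
    refine ⟨Sylow.ofCard (K.map (QuotientGroup.mk' A)) (by rw [hmap, hfac]), K, hKA, ?_⟩
    rw [Sylow.coe_ofCard, QuotientGroup.comap_map_mk', sup_comm]
  · obtain ⟨P⟩ : Nonempty (Sylow p (↥(NA S) ⧸ A)) := inferInstance
    set U := (P : Subgroup (↥(NA S) ⧸ A)).comap (QuotientGroup.mk' A) with hU
    have hAU : A ≤ U := (QuotientGroup.ker_mk' A).ge.trans (Subgroup.ker_le_comap _ _)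
    have hn : (A.subgroupOf U).Normal := Subgroup.normal_subgroupOf
    have hcop : Nat.Coprime (Nat.card (A.subgroupOf U)) (A.subgroupOf U).index := by
      rw [Nat.card_congr (Subgroup.subgroupOfEquivOfLe hAU).toEquiv, hcard,
        ← Subgroup.relIndex]
      have h1 : A.relIndex U = Nat.card (P : Subgroup (↥(NA S) ⧸ A)) := by
        have h2 := Subgroup.relIndex_comap (H := A.map (QuotientGroup.mk' A)) (QuotientGroup.mk' A) U
        rw [hU, Subgroup.map_comap_eq_self_of_surjective (QuotientGroup.mk'_surjective A)] at h2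
        rw [QuotientGroup.comap_map_mk', sup_idem, QuotientGroup.map_mk'_self,
          Subgroup.relIndex_bot_left] at h2
        rw [hU]; exact h2
      rw [h1, P.card_eq_multiplicity]
      exact Nat.Coprime.pow _ _ (Nat.coprime_primes Nat.prime_two hp |>.2 (Ne.symm hp2))
    obtain ⟨C, hC⟩ := Subgroup.exists_right_complement'_of_coprime hcop
    refine ⟨P, C.map U.subtype, ?_, ?_⟩
    · rw [eq_bot_iff]
      rintro x ⟨⟨c, hc, rfl⟩, hxA⟩
      have h0 : c ∈ A.subgroupOf U ⊓ C := ⟨hxA, hc⟩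
      rw [disjoint_iff.1 hC.disjoint, mem_bot] at h0
      rw [h0]
      exact one_mem _
    · have h1 := congrArg (Subgroup.map U.subtype) hC.sup_eq_top
      rw [Subgroup.map_sup, ← MonoidHom.range_eq_map, Subgroup.range_subtype,
        Subgroup.subgroupOf_map_subtype, inf_eq_left.2 hAU, sup_comm] at h1
      rw [h1]

end CfsgLib.Trans3.ConwayM24
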