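import Cfsg.Agent.Lib.Trans3.ConwayM24.Fusion

/-!
A lower bound on the order of the normaliser.
-/

set_option autoImplicit false
set_option maxRecDepth 20000
set_option synthInstance.maxSize 2000

namespace CfsgLib.Trans3.ConwayM24

open Subgroup CfsgLib.Trans3.ExtraTwo CfsgLib.ClassK.Conway

/-- A transvection of the plane. -/
def tv (a b x : V) : V := x + dot x b • a

/-- Three independent vectors. -/
def Indep (B : V × V × V) : Prop :=
  B.1 ≠ 0 ∧ B.2.1 ≠ 0 ∧ B.2.1 ≠ B.1 ∧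
    B.2.2 ≠ 0 ∧ B.2.2 ≠ B.1 ∧ B.2.2 ≠ B.2.1 ∧ B.2.2 ≠ B.1 + B.2.1

instance : DecidablePred Indep := fun B => by unfold Indep; infer_instance

theorem card_indep : Fintype.card {B : V × V × V // Indep B} = 168 := by decide +kernel

theorem card_zf : Fintype.card {v : Av // zf v = true} = 759 := by decide +kernel

theorem card_thirty :
    Fintype.card {p : ZMod 2 × ZMod 2 × V // p.2.2 ≠ 0 ∨ p.2.1 = 1} = 30 := by decide +kernel

theorem tv_sig : ∀ a b x : V,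
    tau (pr a 0) (pr 0 b) (pr x 0) = pr (x + dot x b • a) 0 := by decide +kernel

theorem tv_witness : ∀ a b : V, dot a b = 0 → qd (pr a 0) = 0 ∧ qd (pr 0 b) = 0 ∧
    alt (pr a 0) (pr 0 b) = 0 ∧ ∃ u w : V, qd (pr u w) = 1 ∧ alt (pr u w) (pr a 0) = 0 ∧
      alt (pr u w) (pr 0 b) = 0 := by decide +kernel

theorem tv_invol : ∀ a b x : V, dot a b = 0 → tv a b (tv a b x) = x := by decide +kernel

theorem tv_add : ∀ a b x y : V, tv a b (x + y) = tv a b x + tv a b y := by decide +kernel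

theorem tv_first : ∀ u : V, u ≠ 0 → ∃ a b : V, dot a b = 0 ∧ tv a b E1 = u := by decide +kernel

theorem tv_second : ∀ u w' w : V, u ≠ 0 → w' ≠ 0 → w' ≠ u → w ≠ 0 → w ≠ u →
    ∃ a b : V, dot a b = 0 ∧ tv a b u = u ∧ tv a b w' = w := by decide +kernel

theorem tv_third : ∀ u w x' x : V, Indep (u, w, x') → Indep (u, w, x) →
    ∃ a b : V, dot a b = 0 ∧ tv a b u = u ∧ tv a b w = w ∧ tv a b x' = x := by decide +kernel

theorem std_indep : Indep (E1, E2, E3) := by decide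

theorem tv_indep {a b : V} (h : dot a b = 0) {u w x : V} (hi : Indep (u, w, x)) :
    Indep (tv a b u, tv a b w, tv a b x) := by
  have h0 : tv a b 0 = 0 := by simp [tv, dot]
  have hinj : ∀ p q, tv a b p = tv a b q → p = q := fun p q e => by
    rw [← tv_invol a b p h, e, tv_invol a b q h]
  obtain ⟨h1, h2, h3, h4, h5, h6, h7⟩ := hi
  refine ⟨fun e => h1 (hinj _ _ (e.trans h0.symm)), fun e => h2 (hinj _ _ (e.trans h0.symm)),
    fun e => h3 (hinj _ _ e), fun e => h4 (hinj _ _ (e.trans h0.symm)), fun e => h5 (hinj _ _ e),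
    fun e => h6 (hinj _ _ e), fun e => h7 (hinj _ _ ?_)⟩
  rw [tv_add]
  exact e

variable {G : Type*} [Group G] {z : G} {Q : Subgroup G} {e : ↥Q ≃* ES 4 (ff 4)} {ρ : G}
variable [Finite G] (S : Std z e ρ)
include S

theorem exists_tv_lev (a b : V) (h : dot a b = 0) :
    ∃ l, Lev z e ρ l ∧ ∀ x, sig e l (pr x 0) = pr (tv a b x) 0 := by
  obtain ⟨h1, h2, h3, u, w, h4, h5, h6⟩ := tv_witness a b h
  obtain ⟨l, hl, hs⟩ := exists_tau S.tri h1 h2 h3 h4 h5 h6
  exact ⟨l, hl, fun x => by rw [hs, tv_sig]; rfl⟩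

theorem exists_basis_lev (B : {B : V × V × V // Indep B}) :
    ∃ l, Lev z e ρ l ∧ ∃ f : V → V, (∀ x, sig e l (pr x 0) = pr (f x) 0) ∧
      (f E1, f E2, f E3) = B.1 := by
  obtain ⟨⟨u, w, x⟩, hB⟩ := B
  obtain ⟨a1, b1, h1, e1⟩ := tv_first u hB.1
  have i1 := tv_indep h1 std_indep
  rw [e1] at i1
  obtain ⟨a2, b2, h2, e2, e2'⟩ := tv_second u (tv a1 b1 E2) w hB.1 i1.2.1 i1.2.2.1 hB.2.1 hB.2.2.1
  have i2 := tv_indep h2 i1
  rw [e2, e2'] at i2
  obtain ⟨a3, b3, h3, e3, e3', e3''⟩ := tv_third u w _ x i2 hB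
  obtain ⟨l1, hl1, s1⟩ := exists_tv_lev S a1 b1 h1
  obtain ⟨l2, hl2, s2⟩ := exists_tv_lev S a2 b2 h2
  obtain ⟨l3, hl3, s3⟩ := exists_tv_lev S a3 b3 h3
  refine ⟨l3 * (l2 * l1), hl3.mul (hl2.mul hl1), fun p => tv a3 b3 (tv a2 b2 (tv a1 b1 p)),
    fun p => ?_, ?_⟩
  · rw [S.tri.sig_mul hl3.1 (hl2.mul hl1).1, S.tri.sig_mul hl2.1 hl1.1, s1, s2, s3]
  · simp only [e1, e2, e2', e3, e3', e3'']

theorem card_NA_ge : 2 ^ 11 * 244823040 ≤ Nat.card ↥(NA S) := by
  choose lB hlB fB hfB hB using exists_basis_lev S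
  have hv : ∀ v : {v : Av // zf v = true}, NConj S v.1 := fun v => (classes S v.1).2 v.2
  choose nv hnN hnz using hv
  have hp : ∀ p : {p : ZMod 2 × ZMod 2 × V // p.2.2 ≠ 0 ∨ p.2.1 = 1},
      ZConj S (low p.1.1 p.1.2.1 p.1.2.2) := fun p => zconj_low S _ _ _ p.2
  choose dp hdz hdN hdx using hp
  let Φ : ((ZMod 2 × ZMod 2 × Sp 3 × Sp 3) × {B : V × V × V // Indep B} × V) → G := fun q =>
    nm z e ρ q.1.1 q.1.2.1 q.1.2.2.1 q.1.2.2.2 * (lB q.2.1 * S.r q.2.2)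
  have hΦN : ∀ q, Φ q ∈ NA S := fun q => mul_mem (nm_mem_NA S _ _ _ _)
    (mul_mem (lev_mem_NA S (hlB _) _ (hfB _))
      (lev_mem_NA S (S.hr _) id fun b => by rw [S.sr, sigR_fix]; rfl))
  have hΦC : ∀ q, CE z e (Φ q) := fun q => (S.tri.nm_ce _ _ _ _).mul ((hlB _).mul (S.hr _)).1
  have hsig : ∀ q v, sig e (Φ q) v = sig e (lB q.2.1) (sigR q.2.2 v) := fun q v => by
    rw [S.tri.sig_mul (S.tri.nm_ce _ _ _ _) ((hlB _).mul (S.hr _)).1, S.tri.sig_nm,
      S.tri.sig_mul (hlB _).1 (S.hr _).1, S.sr]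
  have hΦ : Function.Injective Φ := by
    rintro ⟨⟨i, j, A, C⟩, B, m⟩ ⟨⟨i', j', A', C'⟩, B', m'⟩ h
    have hs : ∀ v, sig e (lB B) (sigR m v) = sig e (lB B') (sigR m' v) := fun v => by
      rw [← hsig ⟨⟨i, j, A, C⟩, B, m⟩, h, hsig]
    have hBB : B = B' := Subtype.ext (by
      have hx : ∀ x, fB B x = fB B' x := fun x => by
        have := hs (pr x 0)
        rw [sigR_fix, sigR_fix, hfB, hfB] at this
        exact (pr_inj this).1
      rw [← hB B, ← hB B', hx, hx, hx])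
    subst hBB
    have hmm : m = m' := by
      have h0 := sigR_eq_id (m + m') fun v => by
        have := (S.tri.sig_isom (hlB B).1).injective (hs (sigR m' v))
        rw [sigR_add, sigR_add, v_add_self, sigR_zero] at this
        exact this
      calc m = m + (m' + m') := by rw [v_add_self, add_zero]
        _ = m' := by rw [← add_assoc, h0, zero_add]
    subst hmm
    obtain ⟨r1, r2, r3, r4⟩ := S.tri.nm_inj (mul_right_cancel h)
    simp only at r1 r2 r3 r4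
    subst r1 r2 r3 r4
    rfl
  let Ψ : ({v : Av // zf v = true} × {p : ZMod 2 × ZMod 2 × V // p.2.2 ≠ 0 ∨ p.2.1 = 1} ×
      ((ZMod 2 × ZMod 2 × Sp 3 × Sp 3) × {B : V × V × V // Indep B} × V)) → ↥(NA S) := fun q =>
    ⟨nv q.1 * dp q.2.1 * Φ q.2.2, mul_mem (mul_mem (hnN _) (hdN _)) (hΦN _)⟩
  have hΨ : Function.Injective Ψ := by
    rintro ⟨v, p, q⟩ ⟨v', p', q'⟩ h
    have h' : nv v * dp p * Φ q = nv v' * dp p' * Φ q' := congrArg Subtype.val h
    have key : ∀ v p q, nv v * dp p * Φ q * z * (nv v * dp p * Φ q)⁻¹ = iota S v.1 := fun v p q => by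
      rw [← hnz v, show nv v * dp p * Φ q * z * (nv v * dp p * Φ q)⁻¹ =
          nv v * (dp p * (Φ q * z * (Φ q)⁻¹) * (dp p)⁻¹) * (nv v)⁻¹ by group,
        mul_inv_eq_iff_eq_mul.2 (hΦC q).1, z_iff_CE S (hdz p)]
    have hvv : v = v' := Subtype.ext (iota_injective S (by rw [← key v p q, h', key]))
    subst hvv
    rw [mul_assoc, mul_assoc] at h'
    have h2 := mul_left_cancel h'
    have key2 : ∀ p q, dp p * Φ q * xe e * (dp p * Φ q)⁻¹ =
        iota S (low p.1.1 p.1.2.1 p.1.2.2) := fun p q => by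
      rw [← hdx p, show dp p * Φ q * xe e * (dp p * Φ q)⁻¹ =
          dp p * (Φ q * xe e * (Φ q)⁻¹) * (dp p)⁻¹ by group,
        mul_inv_eq_iff_eq_mul.2 (hΦC q).2]
    have hpp : p = p' := by
      have h3 := iota_injective S (by rw [← key2 p q, h2, key2] :
        iota S (low p.1.1 p.1.2.1 p.1.2.2) = iota S (low p'.1.1 p'.1.2.1 p'.1.2.2))
      simp only [low, Prod.mk.injEq] at h3
      obtain ⟨h4, h5, -, h6, -⟩ := h3
      exact Subtype.ext (Prod.ext h4 (Prod.ext h5 (by ext <;> simp [h6])))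
    subst hpp
    rw [hΦ (mul_left_cancel h2)]
  refine le_trans (le_of_eq ?_) (Nat.card_le_card_of_injective Ψ hΨ)
  rw [Nat.card_prod, Nat.card_prod, Nat.card_prod, Nat.card_prod, Nat.card_prod, Nat.card_prod,
    Nat.card_prod]
  simp only [Nat.card_eq_fintype_card, card_zf, card_thirty, card_indep, Fintype.card_fun,
    Fintype.card_prod, Fintype.card_fin, ZMod.card]
  norm_num

end CfsgLib.Trans3.ConwayM24
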