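import Cfsg.Agent.Lib.Trans3.ConwayM24.StdAll
import Cfsg.Prelude.Def_Transfer

/-!
The elementary abelian group of order `2^11` as the centraliser of a subgroup of order `2^5` of
the extraspecial group, with coordinates.
-/

set_option autoImplicit false
set_option maxRecDepth 20000
set_option synthInstance.maxSize 2000

namespace CfsgLib.Trans3.ConwayM24

open Subgroup CfsgLib.Trans3.ExtraTwo CfsgLib.ClassK.Conway

/-- Coordinates `(i, j, a, b, m)`. -/
abbrev Av : Type := ZMod 2 × ZMod 2 × V × V × V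

/-- The effect of the element of order three. -/
def rot (v : Av) : Av := (v.2.1, v.1 + v.2.1, v.2.2.1 + v.2.2.2.1, v.2.2.1, v.2.2.2.2)

theorem dot_zero_left : ∀ y : V, dot 0 y = 0 := by decide

theorem dot_zero_right : ∀ y : V, dot y 0 = 0 := by decide

theorem dot_all : ∀ y : V, (∀ x : V, dot x y = 0) → y = 0 := by decide

theorem sigR_fix (m x : V) : sigR m (pr x 0) = pr x 0 := by
  rw [sigR, px_pr, py_pr, show cr m 0 = 0 by simp [cr], add_zero]

theorem sigR_eq_id : ∀ m : V, (∀ v, sigR m v = v) → m = 0 := by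
  intro m h
  have h1 := h (pr 0 E1)
  have h2 := h (pr 0 E2)
  revert h1 h2
  revert m
  decide +kernel

theorem Qk_zero (m : V) : Qk m 0 = 0 := by simp [Qk]

theorem v_add_self : ∀ v : V, v + v = 0 := by decide

theorem av_add_self (v : Av) : v + v = 0 :=
  Prod.ext (z2_add_self _) (Prod.ext (z2_add_self _)
    (Prod.ext (v_add_self _) (Prod.ext (v_add_self _) (v_add_self _))))

theorem dot_forces : ∀ y' y : V, (∀ x : V, dot x y' = dot x y) → y' = y := by decide

theorem skew_cr : ∀ u1 u2 u3 : V, dot u1 E1 = 0 → dot u2 E2 = 0 → dot u3 E3 = 0 →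
    dot u1 E2 + dot u2 E1 = 0 → dot u1 E3 + dot u3 E1 = 0 → dot u2 E3 + dot u3 E2 = 0 →
    ∃ m, u1 = cr m E1 ∧ u2 = cr m E2 ∧ u3 = cr m E3 := by decide +kernel

/-- An isometry fixing the first plane pointwise is a Siegel map. -/
theorem exists_sigR {f : Sp 3 → Sp 3} (hf : Isom f) (hfix : ∀ x, f (pr x 0) = pr x 0) :
    ∃ m, ∀ v, f v = sigR m v := by
  have hy : ∀ y, py (f (pr 0 y)) = y := fun y => dot_forces _ _ fun x => by
    have h := hf.map_alt (pr x 0) (pr 0 y)
    rw [hfix, ← pr_px_py (f (pr 0 y)), alt_pr, alt_pr, dot_zero_right, dot_zero_left,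
      add_zero, add_zero] at h
    exact h
  have hval : ∀ y, f (pr 0 y) = pr (px (f (pr 0 y))) y := fun y => by
    conv_lhs => rw [← pr_px_py (f (pr 0 y)), hy]
  have hq : ∀ y, dot (px (f (pr 0 y))) y = 0 := fun y => by
    rw [← qd_pr, ← hval, hf.map_qd, qd_pr, dot_zero_left]
  have hb : ∀ y y', dot (px (f (pr 0 y))) y' + dot (px (f (pr 0 y'))) y = 0 := fun y y' => by
    rw [← alt_pr, ← hval, ← hval, hf.map_alt, alt_pr, dot_zero_left, dot_zero_left, add_zero]
  obtain ⟨m, m1, m2, m3⟩ := skew_cr _ _ _ (hq E1) (hq E2) (hq E3) (hb E1 E2) (hb E1 E3) (hb E2 E3)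
  have e1 : f (pr 0 E1) = sigR m (pr 0 E1) := by rw [hval, m1, sigR, px_pr, py_pr, zero_add]
  have e2 : f (pr 0 E2) = sigR m (pr 0 E2) := by rw [hval, m2, sigR, px_pr, py_pr, zero_add]
  have e3 : f (pr 0 E3) = sigR m (pr 0 E3) := by rw [hval, m3, sigR, px_pr, py_pr, zero_add]
  have hg : ∀ u w, sigR m (u + w) = sigR m u + sigR m w := fun u w => by
    simp only [sigR, pr_add]
    congr 1
    · simp only [px, py, cr, Pi.add_apply, Prod.fst_add, Prod.snd_add, Prod.mk_add_mk]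
      ext <;> simp <;> ring
  refine ⟨m, fun v => ?_⟩
  have hall : ∀ y : V, y = 0 ∨ y = E1 ∨ y = E2 ∨ y = E3 ∨ y = E1 + E2 ∨ y = E1 + E3 ∨
      y = E2 + E3 ∨ y = E1 + E2 + E3 := by decide
  have hyy : f (pr 0 (py v)) = sigR m (pr 0 (py v)) := by
    have h2 : ∀ u w, f (pr 0 u) = sigR m (pr 0 u) → f (pr 0 w) = sigR m (pr 0 w) →
        f (pr 0 (u + w)) = sigR m (pr 0 (u + w)) := fun u w hu hw => by
      rw [show pr 0 (u + w) = pr 0 u + pr 0 w by rw [pr_add, add_zero], hf.map_add, hg, hu, hw]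
    rcases hall (py v) with h | h | h | h | h | h | h | h <;> rw [h]
    exacts [by rw [hfix, sigR_fix], e1, e2, e3, h2 _ _ e1 e2, h2 _ _ e1 e3, h2 _ _ e2 e3,
      h2 _ _ (h2 _ _ e1 e2) e3]
  have hv : v = pr (px v) 0 + pr 0 (py v) := by rw [pr_add, add_zero, zero_add, pr_px_py]
  rw [hv, hf.map_add, hg, hfix, hyy, sigR_fix]

variable {G : Type*} [Group G] {z : G} {Q : Subgroup G} {e : ↥Q ≃* ES 4 (ff 4)} {ρ : G}

/-- The element with given coordinates. -/
def iota (S : Std z e ρ) (v : Av) : G :=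
  nm z e ρ v.1 v.2.1 (pr v.2.2.1 0) (pr v.2.2.2.1 0) * S.r v.2.2.2.2

variable [Finite G] (S : Std z e ρ)
include S

theorem sig_one (v : Sp 3) : sig e (1 : G) v = v := by rw [← S.tri.nm_one, S.tri.sig_nm]

theorem r_zero : S.r 0 = 1 :=
  S.tri.lev_trivial (S.hr 0) fun v => by rw [S.sr, sigR_zero]

theorem r_mul (m n : V) : S.r m * S.r n = S.r (m + n) :=
  S.tri.lev_ext ((S.hr m).mul (S.hr n)) (S.hr _) fun v => by
    rw [S.tri.sig_mul (S.hr m).1 (S.hr n).1, S.sr, S.sr, S.sr, sigR_add]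

theorem r_nm (m : V) (i j : ZMod 2) (a b : Sp 3) :
    S.r m * nm z e ρ i j a b =
      nm z e ρ (i + Qk m (py b)) (j + Qk m (py a)) (sigR m a) (sigR m b) * S.r m := by
  rw [← mul_inv_eq_iff_eq_mul, lev_nm S.tri (S.hr m), S.kr, S.kr, S.sr, S.sr]

theorem r_plane (m : V) (i j : ZMod 2) (a b : V) :
    S.r m * nm z e ρ i j (pr a 0) (pr b 0) = nm z e ρ i j (pr a 0) (pr b 0) * S.r m := by
  rw [r_nm, py_pr, py_pr, Qk_zero, add_zero, add_zero, sigR_fix, sigR_fix]

theorem nm_plane (i j k l : ZMod 2) (a b c d : V) :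
    nm z e ρ i j (pr a 0) (pr b 0) * nm z e ρ k l (pr c 0) (pr d 0) =
      nm z e ρ (i + k) (j + l) (pr (a + c) 0) (pr (b + d) 0) := by
  rw [S.tri.nm_mul]
  simp only [alt_pr, beta_pr, dot_zero_right, pr_add, add_zero]

theorem iota_mul (u v : Av) : iota S u * iota S v = iota S (u + v) := by
  obtain ⟨i, j, a, b, m⟩ := u
  obtain ⟨k, l, c, d, n⟩ := v
  simp only [iota]
  rw [mul_assoc, ← mul_assoc (S.r m), r_plane, mul_assoc, ← mul_assoc (nm z e ρ i j _ _),
    nm_plane S, r_mul]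
  rfl

theorem iota_zero : iota S 0 = 1 := by
  simp only [iota, Prod.fst_zero, Prod.snd_zero]
  rw [pr_zero, S.tri.nm_one, r_zero, one_mul]

theorem iota_ce (v : Av) : CE z e (iota S v) :=
  (S.tri.nm_ce _ _ _ _).mul (S.hr _).1

theorem sig_iota (v : Av) (w : Sp 3) : sig e (iota S v) w = sigR v.2.2.2.2 w := by
  rw [iota, S.tri.sig_mul (S.tri.nm_ce _ _ _ _) (S.hr _).1, S.tri.sig_nm, S.sr]

theorem iota_eq_one {v : Av} (h : iota S v = 1) : v = 0 := by
  have hm : v.2.2.2.2 = 0 := sigR_eq_id _ fun w => by rw [← sig_iota S, h, sig_one S]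
  obtain ⟨i, j, a, b, m⟩ := v
  simp only at hm
  subst hm
  rw [iota, r_zero, mul_one] at h
  obtain ⟨h1, h2, h3, h4⟩ := S.tri.nm_eq_one h
  rw [← pr_zero] at h3 h4
  have h3' : a = 0 := (pr_inj h3).1
  have h4' : b = 0 := (pr_inj h4).1
  simp only at h1 h2
  rw [h1, h2, h3', h4']
  rfl

theorem iota_inv (v : Av) : (iota S v)⁻¹ = iota S v :=
  inv_eq_of_mul_eq_one_right (by rw [iota_mul, av_add_self, iota_zero])

theorem iota_injective : Function.Injective (iota S) := fun u v h => by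
  have h1 : iota S (u + v) = 1 := by rw [← iota_mul, h, iota_mul, av_add_self, iota_zero]
  have h2 := iota_eq_one S h1
  calc u = u + (v + v) := by rw [av_add_self, add_zero]
    _ = v := by rw [← add_assoc, h2, zero_add]

/-- The subgroup. -/
def AA : Subgroup G where
  carrier := Set.range (iota S)
  one_mem' := ⟨0, iota_zero S⟩
  mul_mem' := by rintro _ _ ⟨u, rfl⟩ ⟨v, rfl⟩; exact ⟨u + v, (iota_mul S u v).symm⟩
  inv_mem' := by rintro _ ⟨u, rfl⟩; exact ⟨u, (iota_inv S u).symm⟩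

theorem mem_AA {g : G} : g ∈ AA S ↔ ∃ v, iota S v = g := Iff.rfl

theorem card_AA : Nat.card (AA S) = 2 ^ 11 := by
  rw [show Nat.card (AA S) = Nat.card Av from
    (Nat.card_congr (Equiv.ofInjective _ (iota_injective S))).symm]
  simp only [Nat.card_eq_fintype_card, Fintype.card_prod, ZMod.card]
  norm_num

theorem AA_elementary : Cfsg.IsElementaryAbelian 2 (AA S) := by
  refine ⟨⟨⟨?_⟩⟩, ?_⟩
  · rintro ⟨_, u, rfl⟩ ⟨_, v, rfl⟩
    exact Subtype.ext (by
      show iota S u * iota S v = iota S v * iota S u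
      rw [iota_mul, iota_mul, add_comm])
  · rintro _ ⟨u, rfl⟩
    rw [pow_two, iota_mul, av_add_self, iota_zero]

/-- The coordinates of the small subgroup. -/
def low (i j : ZMod 2) (b : V) : Av := (i, j, 0, b, 0)

theorem iota_low (i j : ZMod 2) (b : V) :
    iota S (low i j b) = nm z e ρ i j 0 (pr b 0) := by
  rw [iota, low, r_zero, mul_one]
  simp only [pr_zero]

theorem nm_e (i j : ZMod 2) : nm z e ρ i j 0 0 = ep z e i j := S.tri.nm_ep i j

theorem iota_z : iota S (low 1 0 0) = z := by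
  rw [iota_low, pr_zero, nm_e S, ep, pw_one, pw_zero, mul_one]

theorem iota_x : iota S (low 0 1 0) = xe e := by
  rw [iota_low, pr_zero, nm_e S, ep, pw_one, pw_zero, one_mul]

/-- The group is the centraliser of the small subgroup. -/
theorem mem_AA_of_commute {c : G}
    (hc : ∀ i j b, c * iota S (low i j b) = iota S (low i j b) * c) : c ∈ AA S := by
  have T := S.tri
  have hCE : CE z e c := ⟨by simpa only [iota_z] using hc 1 0 0, by simpa only [iota_x] using hc 0 1 0⟩
  obtain ⟨i0, j0, a0, b0, hl⟩ := T.exists_lev hCE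
  obtain ⟨m, hm⟩ : ∃ m, ∀ v, sig e c v = sigR m v := by
    refine exists_sigR (T.sig_isom hCE) fun x => T.sig_eq hCE (s := 0) ?_
    rw [zero_smul, zero_add]
    refine T.setup.act_eq (Tri.memH hCE) (k := 0) (k' := 0) ?_
    have h := hc 0 0 x
    rw [iota_low, T.nm_dl] at h
    show c * dl e (pr x 0) * c⁻¹ = dl e (pr x 0)
    rw [h, mul_inv_cancel_right]
  obtain ⟨i, j, a, b, hd⟩ := T.inU_of_sig (hCE.mul (S.hr m).1) fun v => by
    rw [T.sig_mul hCE (S.hr m).1, hm, S.sr, sigR_add, v_add_self, sigR_zero]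
  have hcomm : ∀ t : V, (c * S.r m) * nm z e ρ 0 0 0 (pr t 0) =
      nm z e ρ 0 0 0 (pr t 0) * (c * S.r m) := fun t => by
    have h := hc 0 0 t
    rw [iota_low] at h
    rw [mul_assoc, ← pr_zero, r_plane S, pr_zero, ← mul_assoc, h, mul_assoc]
  have hab : py a = 0 ∧ py b = 0 := by
    have key : ∀ t : V, dot t (py a) = 0 ∧ dot t (py b) = 0 := fun t => by
      have h := hcomm t
      rw [hd, T.nm_mul, T.nm_mul] at h
      obtain ⟨h1, h2, -, -⟩ := T.nm_inj h
      rw [← pr_px_py a, ← pr_px_py b] at h1 h2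
      rw [← pr_zero] at h1 h2
      simp only [alt_pr, beta_pr, dot_zero_left, dot_zero_right, zero_add, add_zero] at h1 h2
      clear hd h
      revert h1 h2
      generalize dot t (py a) = p; generalize dot t (py b) = q
      revert p q i j
      decide
    exact ⟨dot_all _ fun t => (key t).1, dot_all _ fun t => (key t).2⟩
  refine ⟨(i, j, px a, px b, m), ?_⟩
  rw [← pr_px_py a, ← pr_px_py b, hab.1, hab.2] at hd
  simp only [iota]
  rw [← hd, mul_assoc, r_mul, v_add_self, r_zero, mul_one]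

theorem cent_AA : Subgroup.centralizer (AA S : Set G) ≤ AA S := fun _ hc =>
  mem_AA_of_commute S fun _ _ _ => (mem_centralizer_iff.1 hc _ ⟨_, rfl⟩).symm

/-- Elements mapping the small subgroup into itself normalise the group. -/
theorem mem_normalizer_of_low {g : G}
    (h : ∀ i j b, ∃ i' j' b', g * iota S (low i j b) * g⁻¹ = iota S (low i' j' b')) :
    g ∈ Subgroup.normalizer (AA S : Set G) := by
  choose f1 f2 f3 hf using h
  let φ : ZMod 2 × ZMod 2 × V → ZMod 2 × ZMod 2 × V :=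
    fun p => (f1 p.1 p.2.1 p.2.2, f2 p.1 p.2.1 p.2.2, f3 p.1 p.2.1 p.2.2)
  have hinj : Function.Injective φ := fun p q hpq => by
    have h1 : g * iota S (low p.1 p.2.1 p.2.2) * g⁻¹ = g * iota S (low q.1 q.2.1 q.2.2) * g⁻¹ := by
      rw [hf, hf]
      exact congrArg (fun w => iota S (low w.1 w.2.1 w.2.2)) hpq
    have h2 := iota_injective S (mul_left_cancel (mul_right_cancel h1))
    simp only [low, Prod.ext_iff] at h2
    exact Prod.ext h2.1 (Prod.ext h2.2.1 (Prod.ext h2.2.2.2.1.1 (Prod.ext h2.2.2.2.1.2.1 h2.2.2.2.1.2.2)))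
  have hsurj := Finite.injective_iff_surjective.1 hinj
  refine Subgroup.mem_normalizer_fintype fun x hx => ?_
  obtain ⟨w, rfl⟩ := mem_AA S |>.1 hx
  refine mem_AA_of_commute S fun i j b => ?_
  obtain ⟨p, hp⟩ := hsurj (i, j, b)
  rw [← show iota S (low (φ p).1 (φ p).2.1 (φ p).2.2) = iota S (low i j b) by rw [hp], ← hf]
  rw [show g * iota S w * g⁻¹ * (g * iota S (low p.1 p.2.1 p.2.2) * g⁻¹) =
      g * (iota S w * iota S (low p.1 p.2.1 p.2.2)) * g⁻¹ by group, iota_mul, add_comm, ← iota_mul]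
  group

end CfsgLib.Trans3.ConwayM24
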