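import Cfsg.Agent.Lib.ClassK.ConwaySiegel

/-!
Coordinates adapted to a pair of complementary totally singular planes of the middle space, and
the Siegel maps fixing the first plane pointwise.
-/

set_option autoImplicit false
set_option maxRecDepth 20000
set_option synthInstance.maxSize 2000

namespace CfsgLib.Trans3.ConwayM24

open CfsgLib.Trans3.ExtraTwo CfsgLib.ClassK.Conway

/-- A plane. -/
abbrev V : Type := ZMod 2 × ZMod 2 × ZMod 2

/-- First basis vector. -/
def E1 : V := (1, 0, 0)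
/-- Second basis vector. -/
def E2 : V := (0, 1, 0)
/-- Third basis vector. -/
def E3 : V := (0, 0, 1)

/-- The vector with the given components in the two planes. -/
def pr (x y : V) : Sp 3 := ![(x.1, y.1), (x.2.1, y.2.1), (x.2.2, y.2.2)]

/-- The component in the first plane. -/
def px (v : Sp 3) : V := ((v 0).1, (v 1).1, (v 2).1)

/-- The component in the second plane. -/
def py (v : Sp 3) : V := ((v 0).2, (v 1).2, (v 2).2)

/-- The pairing of the planes. -/
def dot (x y : V) : ZMod 2 := x.1 * y.1 + x.2.1 * y.2.1 + x.2.2 * y.2.2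

/-- The alternating product. -/
def cr (m y : V) : V :=
  (m.2.1 * y.2.2 + m.2.2 * y.2.1, m.2.2 * y.1 + m.1 * y.2.2, m.1 * y.2.1 + m.2.1 * y.1)

/-- The signs of the Siegel maps fixing the first plane. -/
def Qk (m y : V) : ZMod 2 :=
  m.1 * (y.1 + y.2.2 + y.2.1 * y.2.2) + m.2.1 * (y.2.1 + y.1 + y.2.2 * y.1) +
    m.2.2 * (y.2.2 + y.2.1 + y.1 * y.2.1)

theorem pr_px_py (v : Sp 3) : pr (px v) (py v) = v := by
  funext i; fin_cases i <;> rfl

theorem px_pr (x y : V) : px (pr x y) = x := rfl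

theorem py_pr (x y : V) : py (pr x y) = y := rfl

theorem pr_add (x y x' y' : V) : pr x y + pr x' y' = pr (x + x') (y + y') := by
  funext i; fin_cases i <;> rfl

theorem pr_zero : pr 0 0 = 0 := by
  funext i; fin_cases i <;> rfl

theorem pr_inj {x y x' y' : V} (h : pr x y = pr x' y') : x = x' ∧ y = y' :=
  ⟨congrArg px h, congrArg py h⟩

theorem beta_pr (x y x' y' : V) : beta (ff 3) (pr x y) (pr x' y') = dot x y' := by
  simp [beta, pr, loc, dot, Fin.sum_univ_succ]
  ring

theorem qd_pr (x y : V) : qd (pr x y) = dot x y := beta_pr x y x y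

theorem alt_pr (x y x' y' : V) : alt (pr x y) (pr x' y') = dot x y' + dot x' y := by
  rw [← beta_symm (ff 3), beta_pr, beta_pr]

/-- The Siegel map attached to `m`. -/
def sigR (m : V) (v : Sp 3) : Sp 3 := pr (px v + cr m (py v)) (py v)

/-- The first transvection of the plane. -/
def sigA (v : Sp 3) : Sp 3 :=
  pr ((px v).1 + (px v).2.1, (px v).2.1, (px v).2.2)
    ((py v).1, (py v).2.1 + (py v).1, (py v).2.2)

/-- The second transvection of the plane. -/
def sigB (v : Sp 3) : Sp 3 :=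
  pr ((px v).1, (px v).2.1 + (px v).2.2, (px v).2.2)
    ((py v).1, (py v).2.1, (py v).2.2 + (py v).2.1)

theorem tau_one : ∀ v, tau (pr E2 0) (pr E3 0) v = sigR E1 v := by decide +kernel

theorem tau_two : ∀ v, tau (pr E3 0) (pr E1 0) v = sigR E2 v := by decide +kernel

theorem tau_three : ∀ v, tau (pr E1 0) (pr E2 0) v = sigR E3 v := by decide +kernel

theorem tau_one_two : ∀ v, tau (pr (E1 + E2) 0) (pr E3 0) v = sigR E1 (sigR E2 v) := by
  decide +kernel

theorem tau_two_three : ∀ v, tau (pr (E2 + E3) 0) (pr E1 0) v = sigR E2 (sigR E3 v) := by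
  decide +kernel

theorem tau_three_one : ∀ v, tau (pr (E3 + E1) 0) (pr E2 0) v = sigR E3 (sigR E1 v) := by
  decide +kernel

theorem tau_sigA : ∀ v, tau (pr E1 0) (pr 0 E2) v = sigA v := by decide +kernel

theorem tau_sigB : ∀ v, tau (pr E2 0) (pr 0 E3) v = sigB v := by decide +kernel

theorem sigR_add : ∀ m n : V, ∀ v, sigR m (sigR n v) = sigR (m + n) v := by decide +kernel

theorem sigR_zero : ∀ v, sigR 0 v = v := by decide +kernel

theorem sigA_two : ∀ v, sigA (sigR E2 v) = sigR E2 (sigA v) := by decide +kernel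

theorem sigB_three : ∀ v, sigB (sigR E3 v) = sigR E3 (sigB v) := by decide +kernel

theorem Qk_defect : ∀ m : V, m = E1 ∨ m = E2 ∨ m = E3 → ∀ v w : Sp 3,
    Qk m (py (v + w)) = Qk m (py v) + Qk m (py w) +
      (beta (ff 3) v w + beta (ff 3) (sigR m v) (sigR m w)) := by
  rintro m (rfl | rfl | rfl) <;> decide +kernel

/-- Two sign functions with the same defect agree when they agree on the basis. -/
theorem eq_of_defect {f g : Sp 3 → ZMod 2} {B : Sp 3 → Sp 3 → ZMod 2}
    (hf : ∀ v w, f (v + w) = f v + f w + B v w) (hg : ∀ v w, g (v + w) = g v + g w + B v w)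
    (h0 : f 0 = g 0)
    (hx : ∀ m : V, m = E1 ∨ m = E2 ∨ m = E3 → f (pr m 0) = g (pr m 0) ∧ f (pr 0 m) = g (pr 0 m))
    (v : Sp 3) : f v = g v := by
  obtain ⟨F, hF⟩ : ∃ F : Sp 3 → ZMod 2, ∀ u, F u = f u + g u := ⟨_, fun _ => rfl⟩
  have hadd : ∀ u w, F (u + w) = F u + F w := fun u w => by
    rw [hF, hF, hF, hf, hg]
    generalize f u = p; generalize f w = q; generalize g u = r; generalize g w = s
    generalize B u w = t
    revert p q r s t; decide
  have hsm : ∀ (k : ZMod 2) (m : V), F (pr m 0) = 0 → F (pr 0 m) = 0 →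
      F (pr (k * m.1, k * m.2.1, k * m.2.2) 0) = 0 ∧ F (pr 0 (k * m.1, k * m.2.1, k * m.2.2)) = 0 := by
    intro k m h1 h2
    have hz : F (pr 0 0) = 0 := by rw [pr_zero, hF, h0, z2_add_self]
    rcases z2_cases k with rfl | rfl
    · simp only [zero_mul]; exact ⟨hz, hz⟩
    · simp only [one_mul]; exact ⟨h1, h2⟩
  have hb : ∀ m : V, m = E1 ∨ m = E2 ∨ m = E3 → F (pr m 0) = 0 ∧ F (pr 0 m) = 0 := fun m hm => by
    rw [hF, hF, (hx m hm).1, (hx m hm).2]
    exact ⟨z2_add_self _, z2_add_self _⟩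
  have hv : F v = 0 := by
    rw [show v = pr ((px v).1 * E1.1, (px v).1 * E1.2.1, (px v).1 * E1.2.2) 0 +
        pr ((px v).2.1 * E2.1, (px v).2.1 * E2.2.1, (px v).2.1 * E2.2.2) 0 +
        pr ((px v).2.2 * E3.1, (px v).2.2 * E3.2.1, (px v).2.2 * E3.2.2) 0 +
        pr 0 ((py v).1 * E1.1, (py v).1 * E1.2.1, (py v).1 * E1.2.2) +
        pr 0 ((py v).2.1 * E2.1, (py v).2.1 * E2.2.1, (py v).2.1 * E2.2.2) +
        pr 0 ((py v).2.2 * E3.1, (py v).2.2 * E3.2.1, (py v).2.2 * E3.2.2) from ?_,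
      hadd, hadd, hadd, hadd, hadd,
      (hsm _ _ (hb E1 (by simp)).1 (hb E1 (by simp)).2).1,
      (hsm _ _ (hb E2 (by simp)).1 (hb E2 (by simp)).2).1,
      (hsm _ _ (hb E3 (by simp)).1 (hb E3 (by simp)).2).1,
      (hsm _ _ (hb E1 (by simp)).1 (hb E1 (by simp)).2).2,
      (hsm _ _ (hb E2 (by simp)).1 (hb E2 (by simp)).2).2,
      (hsm _ _ (hb E3 (by simp)).1 (hb E3 (by simp)).2).2]
    · simp
    · revert v; decide +kernel
  rw [hF] at hv
  exact (by decide : ∀ p q : ZMod 2, p + q = 0 → p = q) _ _ hv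

end CfsgLib.Trans3.ConwayM24
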