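import Cfsg.Agent.Lib.Trans3.ConwayM24.Moves
import Cfsg.Agent.Lib.ClassK.ConwaySep

/-!
The elements of the group conjugate to the central involution: they form one orbit of the
normaliser, described in coordinates.
-/

set_option autoImplicit false
set_option maxRecDepth 20000
set_option synthInstance.maxSize 2000

namespace CfsgLib.Trans3.ConwayM24

open Subgroup CfsgLib.Trans3.ExtraTwo CfsgLib.ClassK.Conway

/-- The vector moved to the first singular vector. -/
def pOf (a m : V) : V := if a = 0 then (if cr m E1 = 0 then cr m E2 else cr m E1) else a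

/-- A vector paired with the given one. -/
def sOf (p : V) : V := if p.1 = 1 then E1 else if p.2.1 = 1 then E2 else E3

/-- The moved middle component of a value of the commutator map. -/
def wOf (a m : V) (t : ZMod 2) (y : V) : V :=
  dot a y • pOf a m +
    (t • a + cr m y + dot (t • a + cr m y) (sOf (pOf a m)) • pOf a m)

theorem range_small : ∀ a m : V, dot a m = 0 → m ≠ 0 →
    dot (pOf a m) (sOf (pOf a m)) = 1 ∧
      ∃ u : V, ∀ (t : ZMod 2) (y : V), wOf a m t y = 0 ∨ wOf a m t y = u := by decide +kernel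

theorem range_large : ∀ m u : V, m ≠ 0 → ∃ y, cr m y ≠ 0 ∧ cr m y ≠ u := by decide +kernel

/-- A rotation making the first component orthogonal to the last. -/
def rotTo (v : Av) : Av :=
  if dot v.2.2.1 v.2.2.2.2 = 0 then v
  else if dot (v.2.2.1 + v.2.2.2.1) v.2.2.2.2 = 0 then rot v else rot (rot v)

/-- The coordinates of the conjugates of the central involution. -/
def zf (v : Av) : Bool :=
  if v.2.2.2.2 = 0 then
    decide (v ≠ 0 ∧ (v.2.2.1 = 0 ∨ v.2.2.2.1 = 0 ∨ v.2.2.1 = v.2.2.2.1))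
  else pf (rotTo v)

theorem dot_third : ∀ a b m : V, dot a m ≠ 0 → dot (a + b) m ≠ 0 → dot (a + b + a) m = 0 := by
  decide +kernel

theorem rotTo_perp (v : Av) :
    dot (rotTo v).2.2.1 (rotTo v).2.2.2.2 = 0 ∧ (rotTo v).2.2.2.2 = v.2.2.2.2 := by
  by_cases h1 : dot v.2.2.1 v.2.2.2.2 = 0
  · rw [rotTo, if_pos h1]; exact ⟨h1, rfl⟩
  · by_cases h2 : dot (v.2.2.1 + v.2.2.2.1) v.2.2.2.2 = 0
    · rw [rotTo, if_neg h1, if_pos h2]; exact ⟨h2, rfl⟩
    · rw [rotTo, if_neg h1, if_neg h2]; exact ⟨dot_third _ _ _ h1 h2, rfl⟩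

theorem rot_low : ∀ i j : ZMod 2, ∀ a : V, rot (low (i + j) i a) = (i, j, a, 0, 0) ∧
    rot (rot (low j (i + j) a)) = (i, j, a, a, 0) := by decide +kernel

theorem flat_iff : ∀ (j : ZMod 2) (a b : V), a ≠ 0 →
    (pf (0, j, a, b, 0) = true ↔ (b = 0 ∨ a = b)) := by decide +kernel

theorem pf_irrel (i j : ZMod 2) (a b m : V) : pf (i, j, a, b, m) = pf (0, j, a, b, m) := rfl

theorem duals : ∀ p r : ZMod 2, ∃ c : Sp 3, alt c sa = p ∧ alt c sb = r := by decide +kernel

theorem sa_sb_perp : alt sa n3 = 0 ∧ alt sb n3 = 0 := by decide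

variable {G : Type*} [Group G] {z : G} {Q : Subgroup G} {e : ↥Q ≃* ES 4 (ff 4)} {ρ : G}
variable [Finite G] (S : Std z e ρ)
include S

/-- Conjugate to `z` under the normaliser. -/
def NConj (v : Av) : Prop := ∃ n ∈ NA S, n * z * n⁻¹ = iota S v

/-- Conjugate to `x` under the part of the normaliser centralising `z`. -/
def ZConj (v : Av) : Prop :=
  ∃ c, c ∈ centralizer ({z} : Set G) ∧ c ∈ NA S ∧ c * xe e * c⁻¹ = iota S v

theorem nconj_isConj {v : Av} (h : NConj S v) : IsConj z (iota S v) := by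
  obtain ⟨n, -, hn⟩ := h
  exact isConj_iff.2 ⟨n, hn⟩

theorem nconj_step {v w : Av} {n : G} (hn : n ∈ NA S) (h : n * iota S v * n⁻¹ = iota S w) :
    NConj S v → NConj S w := fun ⟨k, hk, hkv⟩ =>
  ⟨n * k, mul_mem hn hk, by rw [← h, ← hkv]; group⟩

theorem zconj_step {v w : Av} {n : G} (hz : n ∈ centralizer ({z} : Set G)) (hn : n ∈ NA S)
    (h : n * iota S v * n⁻¹ = iota S w) : ZConj S v → ZConj S w := fun ⟨k, hkz, hk, hkv⟩ =>
  ⟨n * k, mul_mem hz hkz, mul_mem hn hk, by rw [← h, ← hkv]; group⟩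

theorem nconj_rot {v : Av} (h : NConj S v) : NConj S (rot v) :=
  nconj_step S (rho_mem_NA S) (rho_conj S v) h

theorem zconj_nconj {v : Av} (h : ZConj S v) : NConj S v := by
  obtain ⟨c, -, hc, hv⟩ := h
  refine ⟨c * ρ, mul_mem hc (rho_mem_NA S), ?_⟩
  rw [← hv, ← S.tri.rho_z]; group

theorem q_centZ : qe e ∈ centralizer ({z} : Set G) := S.tri.setup.mem_H

theorem zconj_low : ∀ (i j : ZMod 2) (b : V), (b ≠ 0 ∨ j = 1) → ZConj S (low i j b) := by
  have hx : ZConj S (low 0 1 0) :=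
    ⟨1, one_mem _, one_mem _, by rw [one_mul, inv_one, mul_one, iota_x]⟩
  have hx' : ∀ i, ZConj S (low i 1 0) := fun i => by
    rcases z2_cases i with rfl | rfl
    · exact hx
    · exact zconj_step S (q_centZ S) (q_mem_NA S) (by rw [q_conj_low]; rfl) hx
  intro i j b hb
  by_cases hb0 : b = 0
  · subst hb0
    rw [hb.resolve_left (fun h => h rfl)]
    exact hx' i
  obtain ⟨s, hs⟩ := exists_line_unit b hb0
  obtain ⟨c, hcz, hcN, hcv⟩ := exists_move S b s hs
  have h00 : ZConj S (low 0 0 b) := by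
    obtain ⟨k, hk⟩ := S.tri.setup.conj_el hcz ((0 : ZMod 2) • e0 + up (pr b 0)) 0
    rw [hcv, tau_low b s hs, hs, el_low S, one_smul (ZMod 2) b, v_add_self, zero_smul, zero_add,
      el_low S] at hk
    have hk' : c * iota S (low 0 0 b) * c⁻¹ = iota S (low k 1 0) := hk
    exact zconj_step S (inv_mem hcz) (inv_mem hcN) (by rw [← hk']; group) (hx' k)
  have hy : nm z e ρ 0 0 (pr 0 s) 0 ∈ centralizer ({z} : Set G) := Tri.memH (S.tri.nm_ce _ _ _ _)
  have hsh : ∀ i' j', ZConj S (low i' j' b) → ZConj S (low (i' + 1) (j' + 1) b) := fun i' j' h =>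
    zconj_step S hy (nm_mem_NA S _ _ _ _) (by
      rw [nm_conj_low, alt_zero_left, alt_pr, hs, dot_zero_right, add_zero, add_zero]) h
  have h11 := hsh 0 0 h00
  have h01 : ZConj S (low 0 1 b) := zconj_step S (q_centZ S) (q_mem_NA S) (by rw [q_conj_low]; rfl) h11
  have h10 := hsh 0 1 h01
  rcases z2_cases i with rfl | rfl <;> rcases z2_cases j with rfl | rfl
  exacts [h00, h01, h10, h11]

theorem nconj_low {i j : ZMod 2} {b : V} (h : low i j b ≠ 0) : NConj S (low i j b) := by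
  by_cases hc : b ≠ 0 ∨ j = 1
  · exact zconj_nconj S (zconj_low S i j b hc)
  · rw [not_or, not_not] at hc
    obtain ⟨rfl, hj⟩ := hc
    obtain rfl := z2_ne_one hj
    rcases z2_cases i with rfl | rfl
    · exact absurd rfl h
    · exact ⟨1, one_mem _, by rw [one_mul, inv_one, mul_one, iota_z]⟩

theorem flat_nconj {v : Av} (hm : v.2.2.2.2 = 0) (hv : v ≠ 0)
    (h : v.2.2.1 = 0 ∨ v.2.2.2.1 = 0 ∨ v.2.2.1 = v.2.2.2.1) : NConj S v := by
  obtain ⟨i, j, a, b, m⟩ := v
  simp only at hm h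
  subst hm
  rcases h with rfl | rfl | rfl
  · exact nconj_low S hv
  · rw [← (rot_low i j a).1]
    refine nconj_rot S (nconj_low S fun h0 => hv ?_)
    rw [← (rot_low i j a).1, h0]; rfl
  · rw [← (rot_low i j a).2]
    refine nconj_rot S (nconj_rot S (nconj_low S fun h0 => hv ?_))
    rw [← (rot_low i j a).2, h0]; rfl

theorem flat_not {i j : ZMod 2} {a b : V} (ha : a ≠ 0) (hb : b ≠ 0) (hne : a ≠ b) :
    ¬ IsConj z (iota S (i, j, a, b, 0)) := by
  intro h
  have hw := to_sing_pair (a := pr a 0) (b := pr b 0) (by rw [qd_pr, dot_zero_right])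
    (by rw [qd_pr, dot_zero_right]) (by rw [alt_pr, dot_zero_right, dot_zero_right, add_zero])
    (fun h' => ha (pr_inj (h'.trans pr_zero.symm)).1)
    (fun h' => hb (pr_inj (h'.trans pr_zero.symm)).1)
    (fun h' => hne (pr_inj h').1)
  obtain ⟨c, -, hc⟩ := S.tri.pair_conj sa_sb_perp.1 sa_sb_perp.2 duals hw i j
  rw [iota, r_zero, mul_one] at h
  exact S.tri.not_conj_sing (h.trans (isConj_iff.2 ⟨c, hc⟩))

/-- Every suitably rotated element is moved to one with vanishing last component. -/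
theorem exists_flat_conj {v : Av} (hp : dot v.2.2.1 v.2.2.2.2 = 0) (hm : v.2.2.2.2 ≠ 0) :
    ∃ c, c ∈ centralizer ({z} : Set G) ∧ c ∈ NA S ∧
      ∃ w : Av, c * iota S v * c⁻¹ = iota S w ∧ w.2.2.2.2 = 0 := by
  obtain ⟨hps, u, hu⟩ := range_small _ _ hp hm
  set p := pOf v.2.2.1 v.2.2.2.2
  set s := sOf p
  obtain ⟨c, hcz, hcN, hcv⟩ := exists_move S p s hps
  obtain ⟨w, hw⟩ : ∃ w, iota S w = c * iota S v * c⁻¹ :=
    (mem_AA S).1 ((mem_normalizer_iff.1 hcN _).1 ⟨v, rfl⟩)
  refine ⟨c, hcz, hcN, w, hw.symm, by_contra fun hne => ?_⟩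
  obtain ⟨y, hy0, hyu⟩ := range_large _ u hne
  have W := S.tri.setup
  have hg := Tri.memH (iota_ce S v)
  have hg' := Tri.memH (iota_ce S w)
  have hi := W.act_isom hcz
  obtain ⟨v0, hv0⟩ := hi.surjective (up (pr 0 y))
  have key : act e (iota S w) (up (pr 0 y)) + up (pr 0 y) =
      act e c (act e (iota S v) v0 + v0) := by
    rw [hi.map_add, ← hv0, ← W.act_mul hg' hcz, ← W.act_mul hcz hg, hw]
    congr 2
    group
  obtain ⟨-, hgf, hgu⟩ := act_iota S v
  obtain ⟨-, -, hgu'⟩ := act_iota S w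
  obtain ⟨s0, t, b, rfl, -, -⟩ := decomp v0
  have hgi := W.act_isom hg
  have hsmul : ∀ (k : ZMod 2) (x : Sp 4), act e (iota S v) (k • x) = k • act e (iota S v) x :=
    fun k x => smul_map hgi k x
  have hdiff : act e (iota S v) (s0 • e0 + t • f0 + up b) + (s0 • e0 + t • f0 + up b) =
      dot v.2.2.1 (py b) • e0 +
        up (pr (t • v.2.2.1 + cr v.2.2.2.2 (py b)) 0) := by
    rw [hgi.map_add, hgi.map_add, hsmul, hsmul, S.tri.act_e0 (iota_ce S v), hgf, hgu]
    have hb : sigR v.2.2.2.2 b + b = pr (cr v.2.2.2.2 (py b)) 0 := by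
      conv_lhs => arg 2; rw [← pr_px_py b]
      rw [sigR, pr_add, v_add_self, add_comm (px b) _, add_assoc, v_add_self, add_zero]
    have hsm : t • pr v.2.2.1 0 = pr (t • v.2.2.1) 0 := by
      rcases z2_cases t with rfl | rfl
      · rw [zero_smul, zero_smul, pr_zero]
      · rw [one_smul, one_smul]
    rw [← add_zero (0 : V), ← pr_add, ← up_add, ← hb, ← hsm, ← up_add, add_zero]
    rw [show up (t • pr v.2.2.1 0) = t • up (pr v.2.2.1 0) by
      rcases z2_cases t with rfl | rfl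
      · rw [zero_smul, zero_smul, up_zero]
      · rw [one_smul, one_smul], smul_add]
    have h2 : ∀ A B C D E F : Sp 4, A + (B + C) + (D + E) + (A + B + F) = D + (C + (E + F)) := by
      intro A B C D E F
      calc A + (B + C) + (D + E) + (A + B + F) = (A + A) + (B + B) + (D + (C + (E + F))) := by abel
        _ = _ := by rw [sp_add_self, sp_add_self, add_zero, zero_add]
    exact h2 _ _ _ _ _ _
  rw [hdiff, hcv, tau_low p s hps, hgu', py_pr] at key
  have hup : (fun i : Fin 3 => (dot w.2.2.1 y • e0 + up (sigR w.2.2.2.2 (pr 0 y)) + up (pr 0 y)) i.succ) =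
      pr (cr w.2.2.2.2 y) 0 := by
    rw [add_assoc, up_add, sigR, px_pr, py_pr, zero_add, pr_add, add_zero, v_add_self]
    funext i
    simp only [Pi.add_apply, Pi.smul_apply, up, Fin.cons_succ]
    fin_cases i <;> simp [e0] <;> rfl
  rw [key] at hup
  have hdown : ∀ (k : ZMod 2) (x : Sp 3), (fun i : Fin 3 => (k • e0 + up x) i.succ) = x := by
    intro k x
    funext i
    simp only [Pi.add_apply, Pi.smul_apply, up, Fin.cons_succ]
    fin_cases i <;> simp [e0] <;> rfl
  rw [hdown] at hup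
  have h1 := (pr_inj hup).1
  rcases hu t (py b) with h | h
  · exact hy0 (h1.symm.trans h)
  · exact hyu (h1.symm.trans h)

theorem not_Q {v : Av} (hm : v.2.2.2.2 ≠ 0) : iota S v ∉ Q := fun h =>
  hm (sigR_eq_id _ fun x => by
    rw [← sig_iota S]
    funext i
    rw [sig, S.tri.setup.act_mem h]
    simp [up])

theorem zf_iff_flat {v : Av} (hm : v.2.2.2.2 = 0) :
    zf v = true ↔ v ≠ 0 ∧ (v.2.2.1 = 0 ∨ v.2.2.2.1 = 0 ∨ v.2.2.1 = v.2.2.2.1) := by
  rw [zf, if_pos hm, decide_eq_true_iff]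

theorem classes_flat {v : Av} (hm : v.2.2.2.2 = 0) :
    (IsConj z (iota S v) → zf v = true) ∧ (zf v = true → NConj S v) := by
  refine ⟨fun h => (zf_iff_flat S hm).2 ⟨?_, ?_⟩, fun h => ?_⟩
  · rintro rfl
    rw [iota_zero] at h
    exact S.tri.setup.pack.z_ne (isConj_one_left.1 h)
  · obtain ⟨i, j, a, b, m⟩ := v
    simp only at hm ⊢
    subst hm
    by_contra hne
    simp only [not_or] at hne
    exact flat_not S hne.1 hne.2.1 hne.2.2 h
  · obtain ⟨h0, h1⟩ := (zf_iff_flat S hm).1 h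
    exact flat_nconj S hm h0 h1

/-- The classes of the elements of the group. -/
theorem classes (v : Av) :
    (IsConj z (iota S v) → zf v = true) ∧ (zf v = true → NConj S v) := by
  by_cases hm : v.2.2.2.2 = 0
  · exact classes_flat S hm
  obtain ⟨hp, hr⟩ := rotTo_perp v
  set v' := rotTo v with hv'
  have hback : ∃ n ∈ NA S, n * iota S v * n⁻¹ = iota S v' := by
    rw [hv', rotTo]
    split_ifs
    · exact ⟨1, one_mem _, by simp⟩
    · exact ⟨ρ, rho_mem_NA S, rho_conj S v⟩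
    · refine ⟨ρ * ρ, mul_mem (rho_mem_NA S) (rho_mem_NA S), ?_⟩
      rw [← rho_conj S (rot v), ← rho_conj S v]; group
  obtain ⟨n, hn, hnv⟩ := hback
  obtain ⟨c, hcz, hcN, w, hcw, hwm⟩ := exists_flat_conj S hp (by rw [hr]; exact hm)
  have hzf : zf v = pf v' := by rw [zf, if_neg hm, hv']
  have hconj : ∀ {g k x y : G}, g * x * g⁻¹ = y → (IsConj k x ↔ IsConj k y) := fun h =>
    ⟨fun h' => h'.trans (isConj_iff.2 ⟨_, h⟩), fun h' => h'.trans (isConj_iff.2 ⟨_, h⟩).symm⟩
  obtain ⟨i, j, a, b, m⟩ := w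
  simp only at hwm
  subst hwm
  have ha : a ≠ 0 := by
    rintro rfl
    have hQ : iota S (i, j, (0 : V), b, (0 : V)) ∈ Q := by
      show iota S (low i j b) ∈ Q
      rw [← el_low S]; exact Setup.el_mem _ _
    refine not_Q S (v := v') (by rw [hr]; exact hm) ?_
    rw [← hcw] at hQ
    have := S.tri.setup.conj_mem (inv_mem hcz) hQ
    rwa [show c⁻¹ * (c * iota S v' * c⁻¹) * c⁻¹⁻¹ = iota S v' by group] at this
  have hkey : zf v = true ↔ (b = 0 ∨ a = b) := by
    rw [hzf, ← noTwist_iff S, ← noTwist_conj_iff S hcz, hcw, noTwist_iff, pf_irrel,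
      flat_iff j a b ha]
  refine ⟨fun h => ?_, fun h => ?_⟩
  · rw [hconj hnv, hconj hcw] at h
    have h' := ((zf_iff_flat S rfl).1 ((classes_flat S (v := (i, j, a, b, 0)) rfl).1 h)).2
    exact hkey.2 (h'.resolve_left ha)
  · have hw0 : ((i, j, a, b, 0) : Av) ≠ 0 := fun h0 => ha (congrArg (fun x : Av => x.2.2.1) h0)
    have h' := flat_nconj S (v := (i, j, a, b, 0)) rfl hw0 (Or.inr (hkey.1 h))
    refine nconj_step S (inv_mem hn) ?_ (nconj_step S (inv_mem hcN) ?_ h') (v := v')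
    · rw [← hnv]; group
    · rw [← hcw]; group

theorem isConj_iff_zf (v : Av) : IsConj z (iota S v) ↔ zf v = true :=
  ⟨(classes S v).1, fun h => nconj_isConj S ((classes S v).2 h)⟩

end CfsgLib.Trans3.ConwayM24
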