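import Cfsg.Agent.Lib.Trans3.ConwayM24.StdEx

/-!
The elementary abelian group of Siegel elements and two transvections, with standard signs.
-/

set_option autoImplicit false
set_option maxRecDepth 20000
set_option synthInstance.maxSize 2000

namespace CfsgLib.Trans3.ConwayM24

open Subgroup CfsgLib.Trans3.ExtraTwo CfsgLib.ClassK.Conway

theorem sigR_pow : ∀ m : V, ∀ v, sigR (m.1, 0, 0) (sigR (0, m.2.1, 0) (sigR (0, 0, m.2.2) v)) =
    sigR m v := by decide +kernel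

theorem Qk_pow : ∀ m : V, ∀ y, Qk (0, 0, m.2.2) y + Qk (0, m.2.1, 0) y + Qk (m.1, 0, 0) y =
    Qk m y := by decide +kernel

theorem py_sigR (m : V) (v : Sp 3) : py (sigR m v) = py v := py_pr _ _

theorem sigA_facts : sigR E2 (pr 0 E1) = pr E3 E1 ∧ sigA (pr 0 E1) = pr 0 (E1 + E2) ∧
    sigA (pr E3 0) = pr E3 0 ∧ sigA (pr 0 E3) = pr 0 E3 ∧ Qk E2 E1 = 1 ∧ Qk E2 (E1 + E2) = 0 ∧
    beta (ff 3) (pr E3 0) (pr 0 E1) + beta (ff 3) (sigA (pr E3 0)) (sigA (pr 0 E1)) = 0 := by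
  decide +kernel

theorem sigB_facts : sigR E3 (pr 0 E2) = pr E1 E2 ∧ sigB (pr 0 E2) = pr 0 (E2 + E3) ∧
    sigB (pr E1 0) = pr E1 0 ∧ sigB (pr 0 E1) = pr 0 E1 ∧ Qk E3 E2 = 1 ∧ Qk E3 (E2 + E3) = 0 ∧
    beta (ff 3) (pr E1 0) (pr 0 E2) + beta (ff 3) (sigB (pr E1 0)) (sigB (pr 0 E2)) = 0 := by
  decide +kernel

theorem sigA_plane : ∀ y y' : V, beta (ff 3) (pr 0 y) (pr 0 y') +
    beta (ff 3) (sigA (pr 0 y)) (sigA (pr 0 y')) = 0 := by decide +kernel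

theorem sigB_plane : ∀ y y' : V, beta (ff 3) (pr 0 y) (pr 0 y') +
    beta (ff 3) (sigB (pr 0 y)) (sigB (pr 0 y')) = 0 := by decide +kernel

variable {G : Type*} [Group G] {z : G} {Q : Subgroup G} {e : ↥Q ≃* ES 4 (ff 4)} {ρ : G}
  (T : Tri z Q e ρ) [Finite G]
include T

theorem kf_plane {s : G} (hs : Lev z e ρ s) {f : Sp 3 → Sp 3} (hf : ∀ v, sig e s v = f v)
    (hb : ∀ y y' : V, beta (ff 3) (pr 0 y) (pr 0 y') + beta (ff 3) (f (pr 0 y)) (f (pr 0 y')) = 0)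
    (h1 : kf e s (pr 0 E1) = 0) (h2 : kf e s (pr 0 E2) = 0) (h3 : kf e s (pr 0 E3) = 0) (y : V) :
    kf e s (pr 0 y) = 0 := by
  have hadd : ∀ u w, kf e s (pr 0 u) = 0 → kf e s (pr 0 w) = 0 → kf e s (pr 0 (u + w)) = 0 := by
    intro u w hu hw
    rw [show pr 0 (u + w) = pr 0 u + pr 0 w by rw [pr_add, add_zero], kf_add T hs, hu, hw, hf, hf,
      hb, add_zero, add_zero]
  have hall : ∀ y : V, y = 0 ∨ y = E1 ∨ y = E2 ∨ y = E3 ∨ y = E1 + E2 ∨ y = E1 + E3 ∨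
      y = E2 + E3 ∨ y = E1 + E2 + E3 := by decide
  rcases hall y with rfl | rfl | rfl | rfl | rfl | rfl | rfl | rfl
  exacts [by rw [pr_zero, kf_zero T hs], h1, h2, h3, hadd _ _ h1 h2, hadd _ _ h1 h3,
    hadd _ _ h2 h3, hadd _ _ (hadd _ _ h1 h2) h3]

theorem kf_transv {s l : G} (hs : Lev z e ρ s) (hl : Lev z e ρ l) {f : Sp 3 → Sp 3} {m : V}
    (hf : ∀ v, sig e s v = f v) (hsl : ∀ v, sig e l v = sigR m v)
    (hcomm : ∀ v, f (sigR m v) = sigR m (f v)) (hkl : ∀ v, kf e l v = Qk m (py v))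
    {u w c : V}
    (hfac : sigR m (pr 0 u) = pr c u ∧ f (pr 0 u) = pr 0 w ∧ f (pr c 0) = pr c 0 ∧
      f (pr 0 c) = pr 0 c ∧ Qk m u = 1 ∧ Qk m w = 0 ∧
      beta (ff 3) (pr c 0) (pr 0 u) + beta (ff 3) (f (pr c 0)) (f (pr 0 u)) = 0)
    (hu : kf e s (pr 0 u) = 0) (hn : kf e s (pr c c) = 1) :
    kf e s (pr 0 c) = 0 := by
  obtain ⟨g1, g2, g3, g4, g5, g6, g7⟩ := hfac
  have hc : s * l = l * s := T.lev_ext (hs.mul hl) (hl.mul hs) fun v => by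
    rw [T.sig_mul hs.1 hl.1, T.sig_mul hl.1 hs.1, hsl, hf, hf, hsl, hcomm]
  have h := congrArg (fun g => kf e g (pr 0 u)) hc
  simp only [kf_mul T hs hl, kf_mul T hl hs] at h
  rw [hsl, hkl, py_pr, g1, g5, hu, hkl, hf, g2, py_pr, g6, zero_add,
    show pr c u = pr c 0 + pr 0 u by rw [pr_add, add_zero, zero_add], kf_add T hs, hu, hf, hf, g7,
    add_zero, add_zero] at h
  rw [show pr c c = pr c 0 + pr 0 c by rw [pr_add, add_zero, zero_add], kf_add T hs, hf, hf, g3,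
    g4, z2_add_self, add_zero] at hn
  revert h hn
  generalize kf e s (pr c 0) = p; generalize kf e s (pr 0 c) = q
  revert p q; decide

theorem exists_std : ∃ e' : ↥Q ≃* ES 4 (ff 4), Nonempty (Std z e' ρ) := by
  obtain ⟨e', T', l1, l2, l3, a, b, ⟨h1, h2, h3, ha, hb⟩, ⟨s1, s2, s3, sa', sb'⟩, ⟨k1, k2, k3⟩,
    ga, gb⟩ := gens_standard T
  have hA := fun v => (sa' v).trans (tau_sigA v).symm
  have hB := fun v => (sb' v).trans (tau_sigB v).symm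
  obtain ⟨-, a2⟩ := kf_image T' ha hA (n := pr E3 E3) (by decide +kernel) (by decide +kernel)
  obtain ⟨-, b3⟩ := kf_image T' hb hB (n := pr E1 E1) (by decide +kernel) (by decide +kernel)
  have a3 := kf_transv T' ha h2 sa' s2 sigA_two k2 sigA_facts ga
    (kf_tau T' ha hA (by decide +kernel))
  have b1 := kf_transv T' hb h3 sb' s3 sigB_three k3 sigB_facts gb
    (kf_tau T' hb hB (by decide +kernel))
  have hp : ∀ {l : G} {f : ZMod 2 → V}, Lev z e' ρ l → (∀ v, sig e' l v = sigR (f 1) v) →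
      (∀ v, kf e' l v = Qk (f 1) (py v)) → f 0 = 0 → ∀ k : ZMod 2, Lev z e' ρ (pw l k) ∧
      (∀ v, sig e' (pw l k) v = sigR (f k) v) ∧ ∀ v, kf e' (pw l k) v = Qk (f k) (py v) := by
    intro l f hl hs hk hf0 k
    rcases z2_cases k with rfl | rfl
    · rw [pw_zero, hf0]
      refine ⟨⟨⟨by rw [one_mul, mul_one], by rw [one_mul, mul_one]⟩, by rw [one_mul, mul_one]⟩,
        fun v => ?_, fun v => ?_⟩
      · rw [sigR_zero, ← T'.nm_one, T'.sig_nm]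
      · rw [kf_one T']; simp [Qk]
    · rw [pw_one]; exact ⟨hl, hs, hk⟩
  have p1 := fun k => hp (f := fun k => (k, 0, 0)) h1 s1 k1 rfl k
  have p2 := fun k => hp (f := fun k => (0, k, 0)) h2 s2 k2 rfl k
  have p3 := fun k => hp (f := fun k => (0, 0, k)) h3 s3 k3 rfl k
  refine ⟨e', ⟨⟨T', fun m => pw l1 m.1 * (pw l2 m.2.1 * pw l3 m.2.2),
    fun m => (p1 m.1).1.mul ((p2 m.2.1).1.mul (p3 m.2.2).1), fun m v => ?_, fun m v => ?_,
    a, ha, sa', kf_plane T' ha sa' sigA_plane ga a2 a3,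
    b, hb, sb', kf_plane T' hb sb' sigB_plane b1 gb b3⟩⟩⟩
  · rw [T'.sig_mul (p1 _).1.1 ((p2 _).1.mul (p3 _).1).1, T'.sig_mul (p2 _).1.1 (p3 _).1.1,
      (p3 _).2.1, (p2 _).2.1, (p1 _).2.1, sigR_pow]
  · rw [kf_mul T' (p1 _).1 ((p2 _).1.mul (p3 _).1), kf_mul T' (p2 _).1 (p3 _).1,
      T'.sig_mul (p2 _).1.1 (p3 _).1.1, (p3 _).2.1, (p2 _).2.1, (p3 _).2.2, (p2 _).2.2,
      (p1 _).2.2, py_sigR, py_sigR, py_sigR]
    rw [Qk_pow]

end CfsgLib.Trans3.ConwayM24
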