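import Cfsg.Agent.Lib.Trans3.ConwayM24.Split
import Cfsg.Agent.Lib.Trans3.ConwayM24.StdAll
import Cfsg.Agent.Lib.ClassK.ConwayMain

/-!
Groups of Conway type have the local subgroup `2^11 : M24` with two orbits on the involutions.
-/

set_option autoImplicit false
set_option maxRecDepth 20000
set_option synthInstance.maxSize 2000

namespace CfsgLib.Trans3.ConwayM24

open Subgroup CfsgLib.Trans3.ExtraTwo CfsgLib.ClassK.Conway

variable {G : Type*} [Group G] {z : G} [Finite G]

theorem exists_local {Q : Subgroup G} {e : ↥Q ≃* ES 4 (ff 4)} {ρ : G} (T : Tri z Q e ρ) :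
    ∃ A : Subgroup G, Cfsg.IsElementaryAbelian 2 A ∧ Nat.card A = 2 ^ 11 ∧ z ∈ A ∧
      ∃ _ : (A.subgroupOf (Subgroup.normalizer (A : Set G))).Normal,
        Nonempty (↥(Subgroup.normalizer (A : Set G)) ⧸ A.subgroupOf (Subgroup.normalizer (A : Set G))
          ≃* ↥Cfsg.M24) ∧
        (∃ K : Subgroup ↥(Subgroup.normalizer (A : Set G)),
          (A.subgroupOf (Subgroup.normalizer (A : Set G))).IsComplement' K) ∧
        ∃ a ∈ A, ∃ b ∈ A, a ≠ 1 ∧ b ≠ 1 ∧
          (∀ n ∈ Subgroup.normalizer (A : Set G), n * a * n⁻¹ ≠ b) ∧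
          ∀ c ∈ A, c ≠ 1 → ∃ n ∈ Subgroup.normalizer (A : Set G),
            n * c * n⁻¹ = a ∨ n * c * n⁻¹ = b := by
  obtain ⟨e', ⟨S⟩⟩ := exists_std T
  have hN := A_normal S
  set w : Av := (0, 0, E1, E2, 0) with hw
  have hw0 : w ≠ 0 := by decide
  have hwz : zf w = false := by decide +kernel
  have hz0 : (low 1 0 0 : Av) ≠ 0 := by decide
  have hzf : zf (low 1 0 0) = true := by decide +kernel
  refine ⟨AA S, AA_elementary S, card_AA S, ⟨_, iota_z S⟩, hN, ⟨?_⟩, exists_complement S,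
    z, ⟨_, iota_z S⟩, iota S w, ⟨w, rfl⟩, fun h => hz0 (iota_eq_one S ((iota_z S).trans h)),
    fun h => hw0 (iota_eq_one S h), fun n _ h => ?_, ?_⟩
  · exact (QuotientGroup.quotientMulEquivOfEq (permOfN_ker S).symm).trans
      (QuotientGroup.quotientKerEquivOfSurjective _ (permOfN_surjective S))
  · have := (isConj_iff_zf S w).1 (isConj_iff.2 ⟨n, h⟩)
    rw [hwz] at this
    exact Bool.noConfusion this
  · rintro _ ⟨v, rfl⟩ hv
    have hv0 : v ≠ 0 := fun h => hv (by rw [h, iota_zero])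
    by_cases hz : zf v = true
    · obtain ⟨n, hn, h⟩ := exists_move_class S (u := v) (w := low 1 0 0)
        (by rw [vcls, vcls, if_neg hv0, if_neg hz0, if_pos hz, if_pos hzf])
      exact ⟨n, hn, Or.inl (by rw [h, iota_z])⟩
    · obtain ⟨n, hn, h⟩ := exists_move_class S (u := v) (w := w)
        (by rw [vcls, vcls, if_neg hv0, if_neg hw0, if_neg hz, if_neg (by rw [hwz]; simp)])
      exact ⟨n, hn, Or.inr h⟩

end CfsgLib.Trans3.ConwayM24
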