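import Cfsg.Agent.Lib.Trans3.ConwayM24.AGroup
import Cfsg.Agent.Lib.ClassK.ConwayReduce

/-!
Elements of the normaliser of the group, and a test separating the classes of its elements.
-/

set_option autoImplicit false
set_option maxRecDepth 20000
set_option synthInstance.maxSize 2000

namespace CfsgLib.Trans3.ConwayM24

open Subgroup CfsgLib.Trans3.ExtraTwo CfsgLib.ClassK.Conway

theorem conj_data : ∀ p s : V, dot p s = 1 →
    qd (e0 + up (pr p 0)) = 0 ∧ qd (f0 + up (pr 0 s)) = 0 ∧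
    alt (e0 + up (pr p 0)) (f0 + up (pr 0 s)) = 0 := by decide +kernel

theorem tau_low : ∀ p s : V, dot p s = 1 → ∀ (k : ZMod 2) (w : V),
    tau (e0 + up (pr p 0)) (f0 + up (pr 0 s)) (k • e0 + up (pr w 0)) =
      dot w s • e0 + up (pr (k • p + (w + dot w s • p)) 0) := by decide +kernel

theorem sigR_map_zero : ∀ m, sigR m 0 = 0 := by decide +kernel

theorem aux_cr : ∀ (t : ZMod 2) (a b x y : V), b + t • a + (x + y) = x + b → y = t • a := by
  decide +kernel

theorem aux_vec : ∀ (t : ZMod 2) (a b x : V), b + t • a + (x + t • a) = x + b := by decide +kernel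

theorem aux_one : ∀ i j t p q k : ZMod 2,
    i + t * j + k + (q + t * p) = 1 + i + p → j = j + p → t * j + k + q = 1 := by decide

theorem aux_one' : ∀ i j t q k : ZMod 2, t * j + k + q = 1 → i + t * j + k + q = 1 + i := by decide

theorem aux_self : ∀ j p : ZMod 2, j + p = j → p = 0 := by decide

theorem exists_line_unit : ∀ p : V, p ≠ 0 → ∃ s, dot p s = 1 := by decide

variable {G : Type*} [Group G] {z : G} {Q : Subgroup G} {e : ↥Q ≃* ES 4 (ff 4)} {ρ : G}
variable [Finite G] (S : Std z e ρ)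
include S

/-- The normaliser of the group. -/
def NA : Subgroup G := Subgroup.normalizer (AA S : Set G)

theorem el_low (j k : ZMod 2) (b : V) :
    el e (j • e0 + up (pr b 0)) k = iota S (low k j b) := by
  rw [iota_low, nm, S.tri.yl_zero, one_mul, ← S.tri.el_split]

/-- Conjugation by an element centralising `z` with a plane-preserving action fixes the low
subgroup. -/
theorem mem_NA_of_act {c : G} (hc : c ∈ centralizer ({z} : Set G))
    (h : ∀ (j : ZMod 2) (b : V), ∃ (j' : ZMod 2) (b' : V), act e c (j • e0 + up (pr b 0)) = j' • e0 + up (pr b' 0)) :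
    c ∈ NA S := by
  refine mem_normalizer_of_low S fun i j b => ?_
  obtain ⟨j', b', h1⟩ := h j b
  obtain ⟨k, hk⟩ := S.tri.setup.conj_el hc (j • e0 + up (pr b 0)) i
  rw [h1, el_low S, el_low S] at hk
  exact ⟨k, j', b', hk⟩

theorem exists_move (p s : V) (h : dot p s = 1) : ∃ c, c ∈ centralizer ({z} : Set G) ∧ c ∈ NA S ∧
    ∀ v, act e c v = tau (e0 + up (pr p 0)) (f0 + up (pr 0 s)) v := by
  obtain ⟨h1, h2, h3⟩ := conj_data p s h
  obtain ⟨c, hc, hv⟩ := S.tri.setup.evenP.tau4 h1 h2 h3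
  exact ⟨c, hc, mem_NA_of_act S hc fun j b => ⟨_, _, by rw [hv, tau_low p s h]⟩, hv⟩

theorem nm_conj_low (k l : ZMod 2) (A C : Sp 3) (i j : ZMod 2) (b : V) :
    nm z e ρ k l A C * iota S (low i j b) * (nm z e ρ k l A C)⁻¹ =
      iota S (low (i + alt C (pr b 0) + alt (pr b 0) A) (j + alt (pr b 0) A) b) := by
  rw [mul_inv_eq_iff_eq_mul, iota_low, iota_low, S.tri.nm_mul, S.tri.nm_mul,
    ← beta_symm (ff 3) C (pr b 0)]
  simp only [beta_zero_left, beta_zero_right, alt_zero_right, add_zero, zero_add]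
  congr 1
  · generalize alt (pr b 0) A = p; generalize beta (ff 3) C (pr b 0) = q
    generalize beta (ff 3) (pr b 0) C = r
    revert i k p q r; decide
  · generalize alt (pr b 0) A = p
    revert j l p; decide
  · exact add_comm _ _

theorem nm_mem_NA (k l : ZMod 2) (A C : Sp 3) : nm z e ρ k l A C ∈ NA S :=
  mem_normalizer_of_low S fun i j b => ⟨_, _, _, nm_conj_low S k l A C i j b⟩

theorem q_inv : (qe e)⁻¹ = qe e := inv_eq_of_mul_eq_one_right S.tri.q_sq

theorem q_conj_low (i j : ZMod 2) (b : V) :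
    qe e * iota S (low i j b) * (qe e)⁻¹ = iota S (low (i + j) j b) := by
  rw [q_inv S, iota_low, iota_low, S.tri.nm_q, qd_zero, beta_zero_left]
  simp only [add_zero, zero_add]

theorem q_mem_NA : qe e ∈ NA S :=
  mem_normalizer_of_low S fun i j b => ⟨_, _, _, q_conj_low S i j b⟩

theorem rho_conj (v : Av) : ρ * iota S v * ρ⁻¹ = iota S (rot v) := by
  obtain ⟨i, j, a, b, m⟩ := v
  simp only [iota, rot]
  rw [S.tri.lev_rho (S.hr m), S.tri.nm_rho, qd_pr, alt_pr, beta_pr]
  simp only [dot_zero_right, add_zero, pr_add]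

theorem rho_mem_NA : ρ ∈ NA S := by
  refine Subgroup.mem_normalizer_fintype fun x hx => ?_
  obtain ⟨v, rfl⟩ := (mem_AA S).1 hx
  exact ⟨rot v, (rho_conj S v).symm⟩

theorem lev_mem_NA {l : G} (hl : Lev z e ρ l) (f : V → V)
    (hf : ∀ b, sig e l (pr b 0) = pr (f b) 0) : l ∈ NA S := by
  refine mem_normalizer_of_low S fun i j b => ⟨i + kf e l (pr b 0), j + kf e l 0, f b, ?_⟩
  rw [iota_low, iota_low, lev_nm S.tri hl, hf, (S.tri.sig_isom hl.1).map_zero]

theorem z_iff_CE {c : G} (hc : c ∈ centralizer ({z} : Set G)) : c * z * c⁻¹ = z :=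
  mul_inv_eq_iff_eq_mul.2 (mem_centralizer_singleton_iff.1 hc)

/-! ### The action on `Q` -/

theorem act_iota (v : Av) : act e (iota S v) e0 = e0 ∧
    act e (iota S v) f0 = f0 + up (pr v.2.2.1 0) ∧
    ∀ c, act e (iota S v) (up c) =
      dot v.2.2.1 (py c) • e0 + up (sigR v.2.2.2.2 c) := by
  obtain ⟨i, j, a, b, m⟩ := v
  have T := S.tri
  have W := T.setup
  have hr := Tri.memH (S.hr m).1
  have hy := Tri.memH (T.yl_ce (pr a 0))
  have hn : nm z e ρ i j (pr a 0) (pr b 0) ∈ centralizer ({z} : Set G) := Tri.memH (T.nm_ce _ _ _ _)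
  have hnm : ∀ w, act e (nm z e ρ i j (pr a 0) (pr b 0)) w = act e (yl e ρ (pr a 0)) w := fun w => by
    rw [nm, dl, W.act_mul (W.pack.mem_centralizer_z (T.ep_memQ i j))
        (mul_mem hy W.mem_H), W.act_mul hy W.mem_H, W.act_mem (T.ep_memQ i j),
      W.act_mem (Setup.el_mem _ _)]
  obtain ⟨y1, y2, y3⟩ := T.act_yl (pr a 0)
  obtain ⟨r2, r3⟩ := T.lev_act (S.hr m)
  refine ⟨T.act_e0 (iota_ce S _), ?_, fun c => ?_⟩
  · rw [iota, W.act_mul hn hr, r2, hnm, y2, qd_pr, dot_zero_right, zero_smul, add_zero]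
  · rw [iota, W.act_mul hn hr, r3, hnm, y3, S.sr]
    congr 2
    rw [sigR, alt_pr, dot_zero_right, zero_add]

/-- No element of `Q` is moved to its product with `z`. -/
def NoTwist (_ : Std z e ρ) (g : G) : Prop := ∀ X ∈ Q, g * X * g⁻¹ ≠ X * z

theorem noTwist_conj {c : G} (hc : c ∈ centralizer ({z} : Set G)) {g : G} (h : NoTwist S g) :
    NoTwist S (c * g * c⁻¹) := by
  intro X hX hbad
  have hm : c⁻¹ * X * c ∈ Q := by
    have := S.tri.setup.conj_mem (inv_mem hc) hX
    rwa [inv_inv] at this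
  refine h _ hm ?_
  calc g * (c⁻¹ * X * c) * g⁻¹ = c⁻¹ * (c * g * c⁻¹ * X * (c * g * c⁻¹)⁻¹) * c := by group
    _ = c⁻¹ * (X * z) * c := by rw [hbad]
    _ = c⁻¹ * X * (z * c) := by group
    _ = _ := by rw [← mem_centralizer_singleton_iff.1 hc]; group

theorem noTwist_conj_iff {c : G} (hc : c ∈ centralizer ({z} : Set G)) {g : G} :
    NoTwist S (c * g * c⁻¹) ↔ NoTwist S g :=
  ⟨fun h => by
    have := noTwist_conj S (inv_mem hc) h
    rwa [show c⁻¹ * (c * g * c⁻¹) * c⁻¹⁻¹ = g by group] at this, noTwist_conj S hc⟩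

theorem twist_eq (v : Av) (t : ZMod 2) (c : Sp 3) :
    iota S v * (pw (qe e) t * dl e c) * (iota S v)⁻¹ = pw (qe e) t * dl e c * z ↔
      cr v.2.2.2.2 (py c) = t • v.2.2.1 ∧ dot v.2.2.1 (py c) = 0 ∧
        t * v.2.1 + Qk v.2.2.2.2 (py c) + dot v.2.2.2.1 (py c) = 1 := by
  obtain ⟨i, j, a, b, m⟩ := v
  have T := S.tri
  simp only [iota]
  rw [mul_inv_eq_iff_eq_mul]
  have hn : nm z e ρ i j (pr a 0) (pr b 0) * pw (qe e) t =
      pw (qe e) t * nm z e ρ (i + t * j) j (pr a 0) (pr (b + t • a) 0) := by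
    rcases z2_cases t with rfl | rfl
    · simp [pw_zero]
    · rw [pw_one, one_mul, one_smul, add_comm b a]
      have h := T.nm_q i j (pr a 0) (pr b 0)
      simp only [qd_pr, beta_pr, dot_zero_right, add_zero, pr_add] at h
      rw [← h]
      simp only [← mul_assoc, T.q_sq, one_mul]
  have hz : z = nm z e ρ 1 0 0 0 := by rw [T.nm_ep, ep, pw_one, pw_zero, mul_one]
  have hrq : S.r m * pw (qe e) t = pw (qe e) t * S.r m :=
    pw_comm (T.lev_q (S.hr m)).symm t
  have hl : nm z e ρ i j (pr a 0) (pr b 0) * S.r m * (pw (qe e) t * dl e c) =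
      pw (qe e) t * (nm z e ρ (i + t * j) j (pr a 0) (pr (b + t • a) 0) *
        nm z e ρ (Qk m (py c)) 0 0 (sigR m c)) * S.r m := by
    have hd : S.r m * dl e c = nm z e ρ (Qk m (py c)) 0 0 (sigR m c) * S.r m := by
      rw [← mul_inv_eq_iff_eq_mul, ← T.nm_dl c, lev_nm T (S.hr m), S.kr, S.kr, S.sr, S.sr]
      simp only [zero_add, show py (0 : Sp 3) = 0 from rfl, Qk_zero, sigR_map_zero]
    rw [mul_assoc (nm z e ρ i j _ _), ← mul_assoc (S.r m), hrq, mul_assoc (pw (qe e) t), hd,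
      ← mul_assoc (nm z e ρ i j _ _), hn]
    simp only [mul_assoc]
  have hR : pw (qe e) t * dl e c * z * (nm z e ρ i j (pr a 0) (pr b 0) * S.r m) =
      pw (qe e) t * (nm z e ρ 0 0 0 c * (nm z e ρ 1 0 0 0 * nm z e ρ i j (pr a 0) (pr b 0))) *
        S.r m := by
    rw [← hz, T.nm_dl]; simp only [mul_assoc]
  rw [hl, hR, mul_left_inj, mul_right_inj, T.nm_mul, T.nm_mul, T.nm_mul]
  have hc : pr (px c) (py c) = c := pr_px_py c
  constructor
  · intro h
    obtain ⟨h1, h2, -, h4⟩ := T.nm_inj h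
    rw [← hc] at h1 h2 h4
    rw [← pr_zero] at h1 h2 h4
    simp only [sigR, px_pr, py_pr, alt_pr, beta_pr, pr_add, dot_zero_left, dot_zero_right,
      zero_add, add_zero] at h1 h2 h4
    have h5 := (pr_inj h4).1
    refine ⟨?_, ?_, ?_⟩
    · exact aux_cr _ _ _ _ _ h5
    · exact (aux_self _ _ h2.symm)
    · revert h1 h2
      have : dot (b + t • a) (py c) = dot b (py c) + t * dot a (py c) := by
        rcases z2_cases t with rfl | rfl
        · simp [dot]
        · simp [dot]; ring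
      rw [this]
      exact aux_one _ _ _ _ _ _
  · rintro ⟨h1, h2, h3⟩
    have hdot : dot (b + t • a) (py c) = dot b (py c) := by
      rcases z2_cases t with rfl | rfl
      · simp
      · rw [one_smul]
        calc dot (b + a) (py c) = dot b (py c) + dot a (py c) := by simp [dot]; ring
          _ = _ := by rw [h2, add_zero]
    rw [← hc, ← pr_zero]
    simp only [sigR, px_pr, py_pr, alt_pr, beta_pr, pr_add, dot_zero_left, dot_zero_right,
      zero_add, add_zero, hdot, h1, h2]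
    congr 1
    · exact aux_one' _ _ _ _ _ h3
    · congr 1
      exact aux_vec _ _ _ _

/-- The elements of `Q`, split along the exchanging involution. -/
theorem exists_Q_form {X : G} (hX : X ∈ Q) :
    ∃ t k s c, X = pw (qe e) t * dl e c * ep z e k s := by
  obtain ⟨w, k, rfl⟩ := Setup.exists_el (e := e) hX
  obtain ⟨s, t, c, rfl, -, -⟩ := decomp w
  have T := S.tri
  have hcomm : ∀ k' s', dl e c * ep z e k' s' = ep z e k' s' * dl e c := fun k' s' =>
    T.ce_ep (T.dl_ce c) k' s'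
  rcases z2_cases t with rfl | rfl
  · exact ⟨0, k, s, c, by rw [pw_zero, one_mul, hcomm, zero_smul, add_zero, T.el_split]⟩
  · refine ⟨1, k + beta (ff 4) f0 (s • e0 + up c), s, c, ?_⟩
    rw [pw_one, mul_assoc, hcomm, ← T.el_split, qe, Setup.el_mul, one_smul, zero_add]
    congr 1
    · abel
    · rw [add_assoc, z2_add_self, add_zero]

/-- The test in coordinates. -/
def pf (v : Av) : Bool :=
  decide (∀ (t : ZMod 2) (y : V), cr v.2.2.2.2 y = t • v.2.2.1 → dot v.2.2.1 y = 0 →
    t * v.2.1 + Qk v.2.2.2.2 y + dot v.2.2.2.1 y ≠ 1)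

theorem noTwist_iff (v : Av) : NoTwist S (iota S v) ↔ pf v = true := by
  rw [pf, decide_eq_true_iff]
  constructor
  · intro h t y h1 h2 h3
    have hX : pw (qe e) t * dl e (pr 0 y) ∈ Q := by
      refine mul_mem ?_ (Setup.el_mem _ _)
      rcases z2_cases t with rfl | rfl
      · rw [pw_zero]; exact one_mem _
      · rw [pw_one]; exact Setup.el_mem _ _
    exact h _ hX ((twist_eq S v t _).2 ⟨h1, h2, h3⟩)
  · intro h X hX hbad
    obtain ⟨t, k, s, c, rfl⟩ := exists_Q_form S hX
    have h0 : iota S v * (pw (qe e) t * dl e c) * (iota S v)⁻¹ = pw (qe e) t * dl e c * z := by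
      have he : ep z e k s * (iota S v)⁻¹ = (iota S v)⁻¹ * ep z e k s :=
        (S.tri.ce_ep ((iota_ce S v).inv) k s).symm
      have hze : ep z e k s * z = z * ep z e k s :=
        (S.tri.ce_ep (c := z) ⟨rfl, S.tri.pair.comm.symm⟩ k s).symm
      rw [mul_assoc, mul_assoc (pw (qe e) t * dl e c), he, ← mul_assoc, ← mul_assoc,
        mul_assoc (pw (qe e) t * dl e c), hze, ← mul_assoc] at hbad
      simp only [← mul_assoc] at hbad ⊢
      exact mul_right_cancel hbad
    obtain ⟨h1, h2, h3⟩ := (twist_eq S v t c).1 h0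
    exact h t _ h1 h2 h3

end CfsgLib.Trans3.ConwayM24
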