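import Cfsg.Agent.Lib.Trans3.ConwayM24.Sign

/-!
Changing the coordinates on the extraspecial subgroup by an involutory automorphism of the middle
part keeps the normal form.
-/

set_option autoImplicit false

namespace CfsgLib.Trans3.ConwayM24

open Subgroup CfsgLib.Trans3.ExtraTwo CfsgLib.ClassK.Conway

/-- An involutory isometry of the middle space with a sign function. -/
structure Tw where
  L : Sp 3 → Sp 3
  h : Sp 3 → ZMod 2
  add : ∀ v w, L (v + w) = L v + L w
  hadd : ∀ v w, h (v + w) = h v + h w + (beta (ff 3) v w + beta (ff 3) (L v) (L w))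
  invol : ∀ v, L (L v) = v
  hinv : ∀ v, h (L v) = h v
  qdL : ∀ v, qd (L v) = qd v

namespace Tw

variable (t : Tw)

/-- The extension to the whole space. -/
def L4 (v : Sp 4) : Sp 4 := Fin.cons (v 0) (t.L fun i => v i.succ)

/-- The sign on the whole space. -/
def h4 (v : Sp 4) : ZMod 2 := t.h fun i => v i.succ

theorem tail_L4 (v : Sp 4) : (fun i : Fin 3 => t.L4 v i.succ) = t.L fun i => v i.succ := by
  funext i; simp [L4]

theorem beta_four (v w : Sp 4) : beta (ff 4) v w =
    loc false (v 0) (w 0) + beta (ff 3) (fun i => v i.succ) fun i => w i.succ := by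
  simp [beta, Fin.sum_univ_succ]

theorem L4_add (v w : Sp 4) : t.L4 (v + w) = t.L4 v + t.L4 w := by
  have h : (fun i : Fin 3 => (v + w) i.succ) = (fun i => v i.succ) + fun i => w i.succ := rfl
  funext i
  refine Fin.cases ?_ (fun j => ?_) i
  · simp [L4]
  · simp only [L4, Pi.add_apply, Fin.cons_succ]
    exact congrFun (t.add _ _) j

theorem L4_invol (v : Sp 4) : t.L4 (t.L4 v) = v := by
  funext i
  refine Fin.cases ?_ (fun j => ?_) i
  · simp [L4]
  · show t.L (fun k => t.L4 v k.succ) j = v j.succ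
    rw [t.tail_L4, t.invol]

theorem L4_qd (v : Sp 4) : qd (t.L4 v) = qd v := by
  show beta (ff 4) _ _ = beta (ff 4) _ _
  rw [beta_four, beta_four, t.tail_L4]
  simp only [L4, Fin.cons_zero]
  exact congrArg (loc false (v 0) (v 0) + ·) (t.qdL _)

theorem h4_add (v w : Sp 4) : t.h4 (v + w) = t.h4 v + t.h4 w +
    (beta (ff 4) v w + beta (ff 4) (t.L4 v) (t.L4 w)) := by
  rw [beta_four, beta_four, t.tail_L4, t.tail_L4]
  simp only [h4, L4, Fin.cons_zero]
  rw [show (fun i : Fin 3 => (v + w) i.succ) = (fun i => v i.succ) + fun i => w i.succ from rfl,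
    t.hadd]
  generalize loc false (v 0) (w 0) = p
  generalize beta (ff 3) (fun i => v i.succ) (fun i => w i.succ) = q
  generalize beta (ff 3) (t.L fun i => v i.succ) (t.L fun i => w i.succ) = r
  generalize t.h (fun i => v i.succ) = x
  generalize t.h (fun i => w i.succ) = y
  revert p q r x y; decide

/-- The automorphism. -/
def aut : ES 4 (ff 4) ≃* ES 4 (ff 4) where
  toFun x := ⟨t.L4 x.v, x.c + t.h4 x.v⟩
  invFun x := ⟨t.L4 x.v, x.c + t.h4 x.v⟩
  left_inv x := by
    refine ES.ext (t.L4_invol x.v) ?_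
    show x.c + t.h4 x.v + t.h4 (t.L4 x.v) = x.c
    rw [h4, h4, t.tail_L4, t.hinv, add_assoc, z2_add_self, add_zero]
  right_inv x := by
    refine ES.ext (t.L4_invol x.v) ?_
    show x.c + t.h4 x.v + t.h4 (t.L4 x.v) = x.c
    rw [h4, h4, t.tail_L4, t.hinv, add_assoc, z2_add_self, add_zero]
  map_mul' x y := by
    refine ES.ext (t.L4_add _ _) ?_
    show x.c + y.c + beta (ff 4) x.v y.v + t.h4 (x.v + y.v) =
      x.c + t.h4 x.v + (y.c + t.h4 y.v) + beta (ff 4) (t.L4 x.v) (t.L4 y.v)
    rw [t.h4_add]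
    generalize x.c = p; generalize y.c = q
    generalize beta (ff 4) x.v y.v = r
    generalize beta (ff 4) (t.L4 x.v) (t.L4 y.v) = u
    generalize t.h4 x.v = f; generalize t.h4 y.v = g
    revert p q r u f g; decide

theorem L_zero : t.L 0 = 0 := by
  have h := t.add 0 0
  rw [add_zero] at h
  exact left_eq_add.1 h

theorem h_zero : t.h 0 = 0 := by
  have h := t.hadd 0 0
  rw [add_zero, t.L_zero, beta_zero_left, z2_add_self] at h
  revert h; generalize t.h 0 = p; revert p; decide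

theorem L4_up (v : Sp 3) : t.L4 (up v) = up (t.L v) := by
  funext i
  refine Fin.cases ?_ (fun j => ?_) i
  · simp [L4, up]
  · simp [L4, up]

theorem h4_up (v : Sp 3) : t.h4 (up v) = t.h v := by simp [h4, up]

theorem L4_head {v : Sp 4} (hv : (fun i : Fin 3 => v i.succ) = 0) : t.L4 v = v ∧ t.h4 v = 0 := by
  refine ⟨?_, by rw [h4, hv, t.h_zero]⟩
  funext i
  refine Fin.cases ?_ (fun j => ?_) i
  · simp [L4]
  · simp only [L4, Fin.cons_succ]
    rw [hv, t.L_zero]
    exact (congrFun hv j).symm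

end Tw

variable {G : Type*} [Group G]

/-- The new coordinates. -/
def retwist {Q : Subgroup G} (e : ↥Q ≃* ES 4 (ff 4)) (t : Tw) : ↥Q ≃* ES 4 (ff 4) :=
  e.trans t.aut

variable {z : G} {Q : Subgroup G} {e : ↥Q ≃* ES 4 (ff 4)} {ρ : G}

theorem el_retwist (t : Tw) (v : Sp 4) (c : ZMod 2) :
    el (retwist e t) v c = el e (t.L4 v) (c + t.h4 v) := rfl

theorem xe_retwist (t : Tw) : xe (retwist e t) = xe e := by
  obtain ⟨h, h'⟩ := t.L4_head (v := e0) (by decide)
  rw [xe, el_retwist, h, h', add_zero]; rfl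

theorem qe_retwist (t : Tw) : qe (retwist e t) = qe e := by
  obtain ⟨h, h'⟩ := t.L4_head (v := f0) (by decide)
  rw [qe, el_retwist, h, h', add_zero]; rfl

theorem ep_retwist (t : Tw) (i j : ZMod 2) : ep z (retwist e t) i j = ep z e i j := by
  rw [ep, ep, xe_retwist]

theorem lev_retwist (t : Tw) (l : G) : Lev z (retwist e t) ρ l ↔ Lev z e ρ l := by
  simp only [Lev, CE, xe_retwist]

variable [Finite G]

theorem setup_retwist (S : Setup z Q e) (t : Tw) : Setup z Q (retwist e t) := by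
  have hpi : ∀ g, ClassK.Conway.pi (retwist e t) g = t.L4 (ClassK.Conway.pi e g) := fun g => by
    by_cases h : g ∈ Q
    · rw [ClassK.Conway.pi, dif_pos h, ClassK.Conway.pi, dif_pos h]; rfl
    · rw [ClassK.Conway.pi, dif_neg h, ClassK.Conway.pi, dif_neg h]
      exact ((t.L4_head (v := (0 : Sp 4)) rfl).1).symm
  have hact : ∀ c ∈ centralizer ({z} : Set G), ∀ v,
      act (retwist e t) c v = t.L4 (act e c (t.L4 v)) := fun c hc v => by
    obtain ⟨k, hk⟩ := S.conj_el hc (t.L4 v) (0 + t.h4 v)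
    rw [act, el_retwist, hpi, hk, Setup.pi_el]
  have hi : Isom t.L4 := ⟨t.L4_add, t.L4_qd⟩
  refine ⟨S.pack, fun a b ha hb => ?_, fun c hc a ha => ?_, S.fus⟩
  · obtain ⟨c, hc, hca⟩ := S.even (t.L4 a) (t.L4 b) (by rw [t.L4_qd, ha]) (by rw [t.L4_qd, hb])
    refine ⟨c, hc, fun v => ?_⟩
    rw [hact c hc, hca, refl_conj hi, refl_conj hi, t.L4_invol]
  · obtain ⟨w, hw⟩ := S.norefl c hc (t.L4 a) (by rw [t.L4_qd, ha])
    refine ⟨t.L4 w, fun h => hw ?_⟩
    rw [hact c hc, t.L4_invol] at h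
    calc act e c w = t.L4 (t.L4 (act e c w)) := (t.L4_invol _).symm
      _ = t.L4 (refl a (t.L4 w)) := by rw [h]
      _ = refl (t.L4 a) w := by rw [← refl_conj hi, t.L4_invol]

variable (T : Tri z Q e ρ)
include T

theorem tri_retwist (t : Tw) : Tri z Q (retwist e t) ρ := by
  refine ⟨setup_retwist T.setup t, ?_, ?_, ?_, T.rho3, ?_, T.rho_mem⟩
  · rw [xe_retwist]; exact T.pair
  · rw [xe_retwist]; exact T.rho_z
  · rw [xe_retwist]; exact T.rho_x
  · rw [qe_retwist]; exact T.qrq

theorem dl_retwist (t : Tw) (v : Sp 3) :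
    dl (retwist e t) v = ep z e (t.h v) 0 * dl e (t.L v) := by
  rw [dl, el_retwist, t.L4_up, t.h4_up, zero_add, ← T.el_split, zero_smul, zero_add]

theorem sig_kf_retwist (t : Tw) {l : G} (hl : Lev z e ρ l) (v : Sp 3) :
    sig (retwist e t) l v = t.L (sig e l (t.L v)) ∧
      kf (retwist e t) l v = t.h v + kf e l (t.L v) + t.h (sig e l (t.L v)) := by
  have T' := tri_retwist T t
  have h1 := lev_dl T' ((lev_retwist t l).2 hl) v
  obtain ⟨w, hw⟩ : ∃ w, w = sig e l (t.L v) := ⟨_, rfl⟩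
  have h2 : l * dl (retwist e t) v * l⁻¹ =
      ep z (retwist e t) (t.h v + kf e l (t.L v) + t.h w) 0 * dl (retwist e t) (t.L w) := by
    rw [ep_retwist, dl_retwist T t (t.L w), t.hinv, t.invol, T.ep_mul_left, dl_retwist T,
      T.ce_comm_left hl.1, mul_assoc, lev_dl T hl, T.ep_mul_left, ← hw]
    congr 2
    generalize t.h v = p; generalize kf e l (t.L v) = q; generalize t.h w = r
    revert p q r; decide
  rw [h2, ← T'.el_split, ← T'.el_split] at h1
  obtain ⟨hv, hc⟩ := Setup.el_inj h1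
  rw [← hw]
  refine ⟨?_, hc.symm⟩
  have h3 := add_left_cancel hv
  exact (up_inj h3).symm

end CfsgLib.Trans3.ConwayM24
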