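import Cfsg.Agent.Lib.Trans3.ConwayM24.Coord
import Cfsg.Agent.Lib.Trans3.ConwayM24.Twist

/-!
Coordinates in which the complement elements fixing the first plane act with standard signs.
-/

set_option autoImplicit false
set_option maxRecDepth 20000
set_option synthInstance.maxSize 2000

namespace CfsgLib.Trans3.ConwayM24

open Subgroup CfsgLib.Trans3.ExtraTwo CfsgLib.ClassK.Conway

variable {G : Type*} [Group G]

/-- The standard elements of the complement. -/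
structure Std {Q : Subgroup G} (z : G) (e : ↥Q ≃* ES 4 (ff 4)) (ρ : G) where
  tri : Tri z Q e ρ
  r : V → G
  hr : ∀ m, Lev z e ρ (r m)
  sr : ∀ m v, sig e (r m) v = sigR m v
  kr : ∀ m v, kf e (r m) v = Qk m (py v)
  sA : G
  hA : Lev z e ρ sA
  ssA : ∀ v, sig e sA v = sigA v
  kA : ∀ y, kf e sA (pr 0 y) = 0
  sB : G
  hB : Lev z e ρ sB
  ssB : ∀ v, sig e sB v = sigB v
  kB : ∀ y, kf e sB (pr 0 y) = 0

theorem z2_iff : ∀ k : ZMod 2, k + 1 = 1 → k = 0 := by decide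

variable {z : G} {Q : Subgroup G} {e : ↥Q ≃* ES 4 (ff 4)} {ρ : G}
  (T : Tri z Q e ρ) [Finite G]
include T

theorem exists_gens : (∃ r, Lev z e ρ r ∧ ∀ v, sig e r v = sigR E1 v) ∧
    (∃ r, Lev z e ρ r ∧ ∀ v, sig e r v = sigR E2 v) ∧
    (∃ r, Lev z e ρ r ∧ ∀ v, sig e r v = sigR E3 v) ∧
    (∃ r, Lev z e ρ r ∧ ∀ v, sig e r v = sigA v) ∧ ∃ r, Lev z e ρ r ∧ ∀ v, sig e r v = sigB v := by
  refine ⟨?_, ?_, ?_, ?_, ?_⟩
  · obtain ⟨l, hl, hs⟩ := exists_tau T (a := pr E2 0) (b := pr E3 0) (m := pr E1 E1) (by decide)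
      (by decide) (by decide) (by decide) (by decide) (by decide)
    exact ⟨l, hl, fun v => by rw [hs, tau_one]⟩
  · obtain ⟨l, hl, hs⟩ := exists_tau T (a := pr E3 0) (b := pr E1 0) (m := pr E2 E2) (by decide)
      (by decide) (by decide) (by decide) (by decide) (by decide)
    exact ⟨l, hl, fun v => by rw [hs, tau_two]⟩
  · obtain ⟨l, hl, hs⟩ := exists_tau T (a := pr E1 0) (b := pr E2 0) (m := pr E3 E3) (by decide)
      (by decide) (by decide) (by decide) (by decide) (by decide)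
    exact ⟨l, hl, fun v => by rw [hs, tau_three]⟩
  · obtain ⟨l, hl, hs⟩ := exists_tau T (a := pr E1 0) (b := pr 0 E2) (m := pr E3 E3) (by decide)
      (by decide) (by decide) (by decide) (by decide) (by decide)
    exact ⟨l, hl, fun v => by rw [hs, tau_sigA]⟩
  · obtain ⟨l, hl, hs⟩ := exists_tau T (a := pr E2 0) (b := pr 0 E3) (m := pr E1 E1) (by decide)
      (by decide) (by decide) (by decide) (by decide) (by decide)
    exact ⟨l, hl, fun v => by rw [hs, tau_sigB]⟩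

/-- The images of a Siegel element carry no sign. -/
theorem kf_image {l : G} (hl : Lev z e ρ l) {a b : Sp 3} (hs : ∀ v, sig e l v = tau a b v)
    {n : Sp 3}
    (h : qd a = 0 ∧ qd b = 0 ∧ alt a b = 0 ∧ a ≠ 0 ∧ b ≠ 0 ∧ a ≠ b ∧ qd n = 1 ∧
      alt n a = 0 ∧ alt n b = 0)
    (hn : qd (n + a) = 1 ∧ alt (n + a) a = 0 ∧ alt (n + a) b = 0 ∧ qd (n + b) = 1 ∧
      alt (n + b) a = 0 ∧ alt (n + b) b = 0 ∧ tau a b n = n ∧ tau a b a = a ∧ tau a b b = b) :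
    kf e l a = 0 ∧ kf e l b = 0 := by
  obtain ⟨h1, h2, h3, h4, h5, h6, h7, h8, h9⟩ := h
  obtain ⟨n1, n2, n3, n4, n5, n6, n7, n8, n9⟩ := hn
  have k0 := kf_tau T hl hs ⟨h1, h2, h3, h4, h5, h6, h7, h8, h9⟩
  have ka := kf_tau T hl hs ⟨h1, h2, h3, h4, h5, h6, n1, n2, n3⟩
  have kb := kf_tau T hl hs ⟨h1, h2, h3, h4, h5, h6, n4, n5, n6⟩
  rw [kf_add T hl, k0, hs, hs, n7, n8, z2_add_self, add_zero] at ka
  rw [kf_add T hl, k0, hs, hs, n7, n9, z2_add_self, add_zero] at kb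
  exact ⟨z2_iff _ (by rw [add_comm]; exact ka), z2_iff _ (by rw [add_comm]; exact kb)⟩

/-- The signs of one generator on the fixed vectors. -/
theorem kf_gen {l : G} (hl : Lev z e ρ l) {m m' m'' : V}
    (hs : ∀ v, sig e l v = sigR m v) (ht : ∀ v, tau (pr m' 0) (pr m'' 0) v = sigR m v)
    (hc : (qd (pr m' 0) = 0 ∧ qd (pr m'' 0) = 0 ∧ alt (pr m' 0) (pr m'' 0) = 0 ∧ pr m' 0 ≠ 0 ∧
      pr m'' 0 ≠ 0 ∧ pr m' 0 ≠ pr m'' 0 ∧ qd (pr m m) = 1 ∧
      alt (pr m m) (pr m' 0) = 0 ∧ alt (pr m m) (pr m'' 0) = 0) ∧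
      (qd (pr m m + pr m' 0) = 1 ∧ alt (pr m m + pr m' 0) (pr m' 0) = 0 ∧
      alt (pr m m + pr m' 0) (pr m'' 0) = 0 ∧ qd (pr m m + pr m'' 0) = 1 ∧
      alt (pr m m + pr m'' 0) (pr m' 0) = 0 ∧ alt (pr m m + pr m'' 0) (pr m'' 0) = 0 ∧
      tau (pr m' 0) (pr m'' 0) (pr m m) = pr m m ∧
      tau (pr m' 0) (pr m'' 0) (pr m' 0) = pr m' 0 ∧
      tau (pr m' 0) (pr m'' 0) (pr m'' 0) = pr m'' 0))
    (hm : sigR m (pr m 0) = pr m 0 ∧ sigR m (pr 0 m) = pr 0 m) :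
    kf e l (pr m' 0) = 0 ∧ kf e l (pr m'' 0) = 0 ∧ kf e l (pr m 0) + kf e l (pr 0 m) = 1 := by
  have hst : ∀ v, sig e l v = tau (pr m' 0) (pr m'' 0) v := fun v => by rw [hs, ht]
  obtain ⟨h1, h2⟩ := kf_image T hl hst hc.1 hc.2
  refine ⟨h1, h2, ?_⟩
  have h := kf_tau T hl hst hc.1
  rw [show pr m m = pr m 0 + pr 0 m by rw [pr_add, add_zero, zero_add], kf_add T hl, hs, hs,
    hm.1, hm.2, z2_add_self, add_zero] at h
  exact h

section Three

variable {l1 l2 l3 : G} (h1 : Lev z e ρ l1) (h2 : Lev z e ρ l2) (h3 : Lev z e ρ l3)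
  (s1 : ∀ v, sig e l1 v = sigR E1 v) (s2 : ∀ v, sig e l2 v = sigR E2 v)
  (s3 : ∀ v, sig e l3 v = sigR E3 v)
include h1 h2 h3 s1 s2 s3

theorem gen_facts :
    (kf e l1 (pr E2 0) = 0 ∧ kf e l1 (pr E3 0) = 0 ∧
      kf e l1 (pr E1 0) + kf e l1 (pr 0 E1) = 1) ∧
    (kf e l2 (pr E3 0) = 0 ∧ kf e l2 (pr E1 0) = 0 ∧
      kf e l2 (pr E2 0) + kf e l2 (pr 0 E2) = 1) ∧
    (kf e l3 (pr E1 0) = 0 ∧ kf e l3 (pr E2 0) = 0 ∧
      kf e l3 (pr E3 0) + kf e l3 (pr 0 E3) = 1) :=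
  ⟨kf_gen T h1 s1 tau_one (by decide +kernel) (by decide +kernel),
    kf_gen T h2 s2 tau_two (by decide +kernel) (by decide +kernel),
    kf_gen T h3 s3 tau_three (by decide +kernel) (by decide +kernel)⟩

/-- The three signs on the first plane agree. -/
theorem eps_eq : kf e l1 (pr E1 0) = kf e l2 (pr E2 0) ∧
    kf e l2 (pr E2 0) = kf e l3 (pr E3 0) := by
  obtain ⟨⟨a2, a3, -⟩, ⟨b3, b1, -⟩, c1, c2, -⟩ := gen_facts T h1 h2 h3 s1 s2 s3
  have key : ∀ {l l' : G}, Lev z e ρ l → Lev z e ρ l' → ∀ {m m' m'' : V},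
      (∀ v, sig e l v = sigR m v) → (∀ v, sig e l' v = sigR m' v) →
      (∀ v, tau (pr (m + m') 0) (pr m'' 0) v = sigR m (sigR m' v)) →
      (qd (pr (m + m') 0) = 0 ∧ qd (pr m'' 0) = 0 ∧ alt (pr (m + m') 0) (pr m'' 0) = 0 ∧
        pr (m + m') 0 ≠ 0 ∧ pr m'' 0 ≠ 0 ∧ pr (m + m') 0 ≠ pr m'' 0 ∧ qd (pr m m + pr 0 m') = 1 ∧
        alt (pr m m + pr 0 m') (pr (m + m') 0) = 0 ∧ alt (pr m m + pr 0 m') (pr m'' 0) = 0) →
      (qd (pr m m + pr 0 m' + pr (m + m') 0) = 1 ∧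
        alt (pr m m + pr 0 m' + pr (m + m') 0) (pr (m + m') 0) = 0 ∧
        alt (pr m m + pr 0 m' + pr (m + m') 0) (pr m'' 0) = 0 ∧
        qd (pr m m + pr 0 m' + pr m'' 0) = 1 ∧
        alt (pr m m + pr 0 m' + pr m'' 0) (pr (m + m') 0) = 0 ∧
        alt (pr m m + pr 0 m' + pr m'' 0) (pr m'' 0) = 0 ∧
        tau (pr (m + m') 0) (pr m'' 0) (pr m m + pr 0 m') = pr m m + pr 0 m' ∧
        tau (pr (m + m') 0) (pr m'' 0) (pr (m + m') 0) = pr (m + m') 0 ∧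
        tau (pr (m + m') 0) (pr m'' 0) (pr m'' 0) = pr m'' 0) →
      sigR m' (pr m 0) = pr m 0 ∧ sigR m' (pr m' 0) = pr m' 0 ∧ sigR m (pr m 0) = pr m 0 ∧
        sigR m (pr m' 0) = pr m' 0 →
      kf e l (pr m' 0) = 0 → kf e l' (pr m 0) = 0 →
      kf e l (pr m 0) = kf e l' (pr m' 0) := by
    intro l l' hl hl' m m' m'' sl sl' ht hc hc' hfix k1 k2
    obtain ⟨f1, f2, f3, f4⟩ := hfix
    have h := (kf_image T (hl.mul hl') (fun v => by rw [T.sig_mul hl.1 hl'.1, sl', sl, ht]) hc hc').1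
    rw [show pr (m + m') 0 = pr m 0 + pr m' 0 by rw [pr_add, add_zero], kf_mul T hl hl',
      kf_add T hl', k2, sl', sl', f1, f2, z2_add_self, zero_add, add_zero, sl',
      show sigR m' (pr m 0 + pr m' 0) = pr m 0 + pr m' 0 by
        rw [← sl', (T.sig_isom hl'.1).map_add, sl', sl', f1, f2],
      kf_add T hl, k1, sl, sl, f3, f4, z2_add_self, add_zero, add_zero] at h
    revert h
    generalize kf e l (pr m 0) = p; generalize kf e l' (pr m' 0) = q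
    revert p q; decide
  exact ⟨key h1 h2 s1 s2 tau_one_two (by decide +kernel) (by decide +kernel) (by decide +kernel)
      a2 b1,
    key h2 h3 s2 s3 tau_two_three (by decide +kernel) (by decide +kernel) (by decide +kernel)
      b3 c2⟩

end Three

end CfsgLib.Trans3.ConwayM24
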