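import Cfsg.Agent.Lib.ClassK.ConwaySiegel

/-!
The signs by which the complement of the radical of the pair acts on the middle extraspecial
subgroup, as a function of the vectors.
-/

set_option autoImplicit false

namespace CfsgLib.Trans3.ConwayM24

open Subgroup CfsgLib.Trans3.ExtraTwo CfsgLib.ClassK.Conway

variable {G : Type*} [Group G]

open Classical in
/-- The central coordinate of the conjugate of a lift. -/
noncomputable def kf {Q : Subgroup G} (e : ↥Q ≃* ES 4 (ff 4)) (l : G) (v : Sp 3) : ZMod 2 :=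
  if h : l * dl e v * l⁻¹ ∈ Q then (e ⟨_, h⟩).c else 0

variable {z : G} {Q : Subgroup G} {e : ↥Q ≃* ES 4 (ff 4)} {ρ : G}

theorem kf_eq (T : Tri z Q e ρ) [Finite G] {l : G} {v w : Sp 3} {k : ZMod 2}
    (h : l * dl e v * l⁻¹ = ep z e k 0 * dl e w) : kf e l v = k := by
  rw [← T.el_split 0 k w] at h
  have hm : l * dl e v * l⁻¹ ∈ Q := h ▸ Setup.el_mem _ _
  rw [kf, dif_pos hm]
  have hh : (⟨_, hm⟩ : ↥Q) = e.symm ⟨(0 : ZMod 2) • e0 + up w, k⟩ := Subtype.ext h
  rw [hh, e.apply_symm_apply]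

variable (T : Tri z Q e ρ) [Finite G]
include T

theorem lev_dl {l : G} (hl : Lev z e ρ l) (v : Sp 3) :
    l * dl e v * l⁻¹ = ep z e (kf e l v) 0 * dl e (sig e l v) := by
  obtain ⟨k, hk, -⟩ := T.lev_conj hl v
  rw [kf_eq T hk, hk]

theorem lev_yl {l : G} (hl : Lev z e ρ l) (v : Sp 3) :
    l * yl e ρ v * l⁻¹ = ep z e 0 (kf e l v) * yl e ρ (sig e l v) := by
  obtain ⟨k, hk, hy⟩ := T.lev_conj hl v
  rw [kf_eq T hk, hy]

theorem lev_nm {l : G} (hl : Lev z e ρ l) (i j : ZMod 2) (a b : Sp 3) :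
    l * nm z e ρ i j a b * l⁻¹ =
      nm z e ρ (i + kf e l b) (j + kf e l a) (sig e l a) (sig e l b) := by
  have h1 : l * nm z e ρ i j a b * l⁻¹ =
      ep z e i j * ((l * yl e ρ a * l⁻¹) * (l * dl e b * l⁻¹)) := by
    rw [nm, T.ce_comm_left hl.1]; group
  rw [h1, lev_yl T hl, lev_dl T hl, mul_assoc (ep z e 0 (kf e l a)),
    T.ce_comm_left (T.yl_ce _), T.ep_mul_left, T.ep_mul_left, nm]
  simp only [add_zero, zero_add]

theorem kf_add {l : G} (hl : Lev z e ρ l) (v w : Sp 3) :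
    kf e l (v + w) = kf e l v + kf e l w +
      (beta (ff 3) v w + beta (ff 3) (sig e l v) (sig e l w)) := by
  have hvw : dl e (v + w) = ep z e (beta (ff 3) v w) 0 * (dl e v * dl e w) := by
    rw [T.dl_mul, T.ep_mul_left, z2_add_self, z2_add_self, T.ep_zero, one_mul]
  refine kf_eq T (w := sig e l v + sig e l w) ?_
  have h1 : l * dl e (v + w) * l⁻¹ =
      ep z e (beta (ff 3) v w) 0 * ((l * dl e v * l⁻¹) * (l * dl e w * l⁻¹)) := by
    rw [hvw, T.ce_comm_left hl.1]; group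
  rw [h1, lev_dl T hl, lev_dl T hl, mul_assoc (ep z e (kf e l v) 0), T.ce_comm_left (T.dl_ce _),
    T.dl_mul, T.ep_mul_left, T.ep_mul_left, T.ep_mul_left]
  simp only [add_zero]
  congr 2
  ring

theorem kf_mul {l m : G} (hl : Lev z e ρ l) (hm : Lev z e ρ m) (v : Sp 3) :
    kf e (l * m) v = kf e m v + kf e l (sig e m v) := by
  refine kf_eq T (w := sig e l (sig e m v)) ?_
  rw [show l * m * dl e v * (l * m)⁻¹ = l * (m * dl e v * m⁻¹) * l⁻¹ by group, lev_dl T hm,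
    T.ce_comm_left hl.1, mul_assoc, lev_dl T hl, T.ep_mul_left, add_zero]

theorem kf_zero {l : G} (hl : Lev z e ρ l) : kf e l 0 = 0 := by
  refine kf_eq T (w := 0) ?_
  rw [T.dl_zero, mul_one, mul_one, mul_inv_cancel, T.ep_zero]

theorem kf_one (v : Sp 3) : kf e (1 : G) v = 0 := by
  refine kf_eq T (w := v) ?_
  rw [one_mul, inv_one, mul_one, T.ep_zero, one_mul]

/-- A Siegel map of the middle space is induced by an element of the complement. -/
theorem exists_tau {a b m : Sp 3} (ha : qd a = 0) (hb : qd b = 0) (hab : alt a b = 0)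
    (hm : qd m = 1) (hma : alt m a = 0) (hmb : alt m b = 0) :
    ∃ l, Lev z e ρ l ∧ ∀ v, sig e l v = tau a b v := by
  obtain ⟨h1, h2, h3⟩ := qd_shift ha hb hab hm hma hmb
  obtain ⟨l, hl, hs⟩ := T.exists_pair hm h1
  obtain ⟨l', hl', hs'⟩ := T.exists_pair h2 h3
  exact ⟨l * l', hl.mul hl', fun v => by rw [T.sig_mul hl.1 hl'.1, hs', hs, refl_four hab hma hmb]⟩

/-- The sign of a Siegel element on a non-singular fixed vector. -/
theorem kf_tau {l : G} (hl : Lev z e ρ l) {a b : Sp 3} (hs : ∀ v, sig e l v = tau a b v)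
    {m : Sp 3} (h : qd a = 0 ∧ qd b = 0 ∧ alt a b = 0 ∧ a ≠ 0 ∧ b ≠ 0 ∧ a ≠ b ∧ qd m = 1 ∧
      alt m a = 0 ∧ alt m b = 0) : kf e l m = 1 := by
  obtain ⟨h1, h2, h3, h4, h5, h6, h7, h8, h9⟩ := h
  exact kf_eq T (T.siegel_mu hl h1 h2 h3 h4 h5 h6 h7 h8 h9 hs)

end CfsgLib.Trans3.ConwayM24
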