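import Cfsg.Agent.Lib.Trans3.ConwayM24.Norm

/-!
Every normal form of a pair can be brought to standard signs by a change of coordinates.
-/

set_option autoImplicit false
set_option maxRecDepth 20000
set_option synthInstance.maxSize 2000

namespace CfsgLib.Trans3.ConwayM24

open Subgroup CfsgLib.Trans3.ExtraTwo CfsgLib.ClassK.Conway

/-- Exchanging the two coordinates of the last plane. -/
def flipTw : Tw where
  L v := ![v 0, v 1, ((v 2).2, (v 2).1)]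
  h v := (v 2).1 * (v 2).2
  add := by decide +kernel
  hadd := by decide +kernel
  invol := by decide +kernel
  hinv := by decide +kernel
  qdL := by decide +kernel

/-- Conjugation by a lift in the middle space. -/
def innerTw (c : Sp 3) : Tw where
  L v := v
  h v := alt v c
  add _ _ := rfl
  hadd v w := by rw [alt_add_left, z2_add_self, add_zero]
  invol _ := rfl
  hinv _ := rfl
  qdL _ := rfl

theorem flip_facts : flipTw.L (pr E3 0) = pr 0 E3 ∧ flipTw.h (pr E3 0) = 0 ∧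
    sigR E3 (pr 0 E3) = pr 0 E3 ∧ flipTw.h (pr 0 E3) = 0 ∧
    ∀ v, flipTw.L (sigR E3 (flipTw.L v)) = sigR E3 v := by decide +kernel

theorem inner_facts : ∀ c1 c2 c3 d2 d3 : ZMod 2,
    let C := pr (0, d2, d3) (c1, c2, c3)
    (alt (pr E1 0) C + alt (sigR E1 (pr E1 0)) C = 0 ∧
      alt (pr E2 0) C + alt (sigR E2 (pr E2 0)) C = 0 ∧
      alt (pr E3 0) C + alt (sigR E3 (pr E3 0)) C = 0) ∧
    alt (pr 0 E2) C + alt (sigR E1 (pr 0 E2)) C = c3 ∧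
    alt (pr 0 E3) C + alt (sigR E2 (pr 0 E3)) C = c1 ∧
    alt (pr 0 E1) C + alt (sigR E3 (pr 0 E1)) C = c2 ∧
    alt (pr 0 E1) C + alt (sigA (pr 0 E1)) C = d2 ∧
    alt (pr 0 E2) C + alt (sigB (pr 0 E2)) C = d3 := by decide +kernel

variable {G : Type*} [Group G] {z : G} {Q : Subgroup G} {e : ↥Q ≃* ES 4 (ff 4)} {ρ : G}
  (T : Tri z Q e ρ) [Finite G]
include T

theorem exists_flat : ∃ t : Tw, ∃ l : G, Lev z (retwist e t) ρ l ∧
    (∀ v, sig (retwist e t) l v = sigR E3 v) ∧ kf (retwist e t) l (pr E3 0) = 0 := by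
  obtain ⟨⟨l1, h1, s1⟩, ⟨l2, h2, s2⟩, ⟨l3, h3, s3⟩, -, -⟩ := exists_gens T
  obtain ⟨-, -, -, -, c⟩ := gen_facts T h1 h2 h3 s1 s2 s3
  rcases z2_cases (kf e l3 (pr E3 0)) with h | h
  · refine ⟨innerTw 0, l3, (lev_retwist _ _).2 h3, fun v => ?_, ?_⟩
    · rw [(sig_kf_retwist T _ h3 v).1]; exact s3 v
    · rw [(sig_kf_retwist T _ h3 _).2]
      show alt _ 0 + kf e l3 (pr E3 0) + alt _ 0 = 0
      rw [alt_zero_right, alt_zero_right, h, add_zero, add_zero]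
  · obtain ⟨f1, f2, f3, f4, f5⟩ := flip_facts
    refine ⟨flipTw, l3, (lev_retwist _ _).2 h3, fun v => ?_, ?_⟩
    · rw [(sig_kf_retwist T _ h3 v).1, s3, f5]
    · rw [(sig_kf_retwist T _ h3 _).2, f2, f1, s3, f3, f4]
      rw [h] at c
      rw [z2_iff (kf e l3 (pr 0 E3)) (by rw [add_comm]; exact c), add_zero, add_zero]

/-- Coordinates with vanishing signs on the first plane and gauged signs on the second. -/
theorem exists_gauged : ∃ e' : ↥Q ≃* ES 4 (ff 4), ∃ (_ : Tri z Q e' ρ) (l1 l2 l3 a b : G),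
    (Lev z e' ρ l1 ∧ Lev z e' ρ l2 ∧ Lev z e' ρ l3 ∧ Lev z e' ρ a ∧ Lev z e' ρ b) ∧
    ((∀ v, sig e' l1 v = sigR E1 v) ∧ (∀ v, sig e' l2 v = sigR E2 v) ∧
      (∀ v, sig e' l3 v = sigR E3 v) ∧ (∀ v, sig e' a v = sigA v) ∧ ∀ v, sig e' b v = sigB v) ∧
    (kf e' l1 (pr E1 0) = 0 ∧ kf e' l2 (pr E2 0) = 0 ∧ kf e' l3 (pr E3 0) = 0) ∧
    (kf e' l1 (pr 0 E2) = 0 ∧ kf e' l2 (pr 0 E3) = 0 ∧ kf e' l3 (pr 0 E1) = 0) ∧
    (kf e' a (pr 0 E1) = 0 ∧ kf e' b (pr 0 E2) = 0) := by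
  obtain ⟨t, l, hl, sl, hk⟩ := exists_flat T
  have T1 := tri_retwist T t
  obtain ⟨⟨l1, h1, s1⟩, ⟨l2, h2, s2⟩, -, ⟨a, ha, sa'⟩, ⟨b, hb, sb'⟩⟩ := exists_gens T1
  obtain ⟨e12, e23⟩ := eps_eq T1 h1 h2 hl s1 s2 sl
  set e1 := retwist e t with he1
  obtain ⟨⟨f1, f2, f3⟩, g1, g2, g3, g4, g5⟩ := inner_facts (kf e1 l2 (pr 0 E3))
    (kf e1 l (pr 0 E1)) (kf e1 l1 (pr 0 E2)) (kf e1 a (pr 0 E1)) (kf e1 b (pr 0 E2))
  set C := pr (0, kf e1 a (pr 0 E1), kf e1 b (pr 0 E2))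
    (kf e1 l2 (pr 0 E3), kf e1 l (pr 0 E1), kf e1 l1 (pr 0 E2))
  have hs : ∀ {g : G} {f : Sp 3 → Sp 3}, Lev z e1 ρ g → (∀ v, sig e1 g v = f v) →
      (∀ v, sig (retwist e1 (innerTw C)) g v = f v) ∧
        ∀ v, kf (retwist e1 (innerTw C)) g v = kf e1 g v + (alt v C + alt (f v) C) := by
    intro g f hg hf
    refine ⟨fun v => by rw [(sig_kf_retwist T1 _ hg v).1]; exact hf v, fun v => ?_⟩
    rw [(sig_kf_retwist T1 _ hg v).2]
    show alt v C + kf e1 g v + alt (sig e1 g v) C = _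
    rw [hf]
    ring
  refine ⟨retwist e1 (innerTw C), tri_retwist T1 _, l1, l2, l, a, b,
    ⟨(lev_retwist _ _).2 h1, (lev_retwist _ _).2 h2, (lev_retwist _ _).2 hl,
      (lev_retwist _ _).2 ha, (lev_retwist _ _).2 hb⟩,
    ⟨(hs h1 s1).1, (hs h2 s2).1, (hs hl sl).1, (hs ha sa').1, (hs hb sb').1⟩, ⟨?_, ?_, ?_⟩,
    ⟨?_, ?_, ?_⟩, ?_, ?_⟩
  · rw [(hs h1 s1).2, e12, e23, hk, f1, add_zero]
  · rw [(hs h2 s2).2, e23, hk, f2, add_zero]
  · rw [(hs hl sl).2, hk, f3, add_zero]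
  · rw [(hs h1 s1).2, g1, z2_add_self]
  · rw [(hs h2 s2).2, g2, z2_add_self]
  · rw [(hs hl sl).2, g3, z2_add_self]
  · rw [(hs ha sa').2, g4, z2_add_self]
  · rw [(hs hb sb').2, g5, z2_add_self]

end CfsgLib.Trans3.ConwayM24
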