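import Cfsg.Agent.Lib.Trans3.ConwayM24.Std

/-!
Existence of standard coordinates.
-/

set_option autoImplicit false
set_option maxRecDepth 20000
set_option synthInstance.maxSize 2000

namespace CfsgLib.Trans3.ConwayM24

open Subgroup CfsgLib.Trans3.ExtraTwo CfsgLib.ClassK.Conway

theorem dot_py_add : ∀ (p : V) (v w : Sp 3),
    dot (py (v + w)) p = dot (py v) p + dot (py w) p := fun p v w => by
  simp only [py, dot, Pi.add_apply, Prod.snd_add]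
  ring

theorem Qk_basis : ∀ m n : V,
    (m = E1 ∧ n = E3) ∨ (m = E2 ∧ n = E1) ∨ (m = E3 ∧ n = E2) →
    ∀ u : ZMod 2, Qk m 0 = 0 ∧ dot 0 n = 0 ∧ Qk m m = 1 ∧ dot m n = 0 ∧
      Qk m n + u * dot n n = 1 + u ∧
      (∀ p : V, p = E1 ∨ p = E2 ∨ p = E3 → p = m ∨ p = n ∨ (Qk m p = 0 ∧ dot p n = 0)) := by
  rintro m n (⟨rfl, rfl⟩ | ⟨rfl, rfl⟩ | ⟨rfl, rfl⟩) <;> decide +kernel

theorem Qk_sum : ∀ m m' : V,
    (m = E1 ∧ m' = E2) ∨ (m = E2 ∧ m' = E3) ∨ (m = E3 ∧ m' = E1) →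
    ∀ (n : V), (m = E1 → n = E3) → (m = E2 → n = E1) → (m = E3 → n = E2) → ∀ u u' : ZMod 2,
    Qk m' (py (pr m (m + m'))) + u' * dot (py (pr m (m + m'))) m +
      (Qk m (py (sigR m' (pr m (m + m')))) + u * dot (py (sigR m' (pr m (m + m')))) n) = 1 →
    u' = 0 := by
  rintro m m' (⟨rfl, rfl⟩ | ⟨rfl, rfl⟩ | ⟨rfl, rfl⟩) <;> decide +kernel

variable {G : Type*} [Group G] {z : G} {Q : Subgroup G} {e : ↥Q ≃* ES 4 (ff 4)} {ρ : G}
  (T : Tri z Q e ρ) [Finite G]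
include T

theorem kf_form {l : G} (hl : Lev z e ρ l) {m n : V}
    (hmn : (m = E1 ∧ n = E3) ∨ (m = E2 ∧ n = E1) ∨ (m = E3 ∧ n = E2))
    (hs : ∀ v, sig e l v = sigR m v) (hx : ∀ p : V, p = E1 ∨ p = E2 ∨ p = E3 → kf e l (pr p 0) = 0)
    (hy : kf e l (pr 0 m) = 1)
    (hy' : ∀ p : V, p = E1 ∨ p = E2 ∨ p = E3 → p ≠ m → p ≠ n → kf e l (pr 0 p) = 0) (v : Sp 3) :
    kf e l v = Qk m (py v) + (kf e l (pr 0 n) + 1) * dot (py v) n := by
  obtain ⟨b1, b2, b3, b4, b5, b6⟩ := Qk_basis m n hmn (kf e l (pr 0 n) + 1)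
  refine eq_of_defect (B := fun v w => beta (ff 3) v w + beta (ff 3) (sigR m v) (sigR m w))
    (f := fun v => kf e l v) (g := fun v => Qk m (py v) + (kf e l (pr 0 n) + 1) * dot (py v) n)
    (fun v w => ?_) (fun v w => ?_) ?_ (fun p hp => ⟨?_, ?_⟩) v
  · rw [kf_add T hl, hs, hs]
  · rw [Qk_defect m (by rcases hmn with h | h | h <;> simp [h.1]), dot_py_add]
    ring
  · rw [kf_zero T hl, ← pr_zero, py_pr, b1, b2, mul_zero, add_zero]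
  · rw [hx p hp, py_pr, b1, b2, mul_zero, add_zero]
  · rw [py_pr]
    rcases b6 p hp with h | h | ⟨h, h'⟩
    · rw [h, hy, b3, b4, mul_zero, add_zero]
    · rw [h, b5, add_comm (kf e l (pr 0 n)), ← add_assoc, z2_add_self, zero_add]
    · by_cases e1 : p = m
      · rw [e1, hy, b3, b4, mul_zero, add_zero]
      by_cases e2 : p = n
      · rw [e2, b5, add_comm (kf e l (pr 0 n)), ← add_assoc, z2_add_self, zero_add]
      rw [hy' p hp e1 e2, h, h', mul_zero, add_zero]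

/-- Elements with standard signs. -/
theorem gens_standard : ∃ e' : ↥Q ≃* ES 4 (ff 4), ∃ (_ : Tri z Q e' ρ) (l1 l2 l3 a b : G),
    (Lev z e' ρ l1 ∧ Lev z e' ρ l2 ∧ Lev z e' ρ l3 ∧ Lev z e' ρ a ∧ Lev z e' ρ b) ∧
    ((∀ v, sig e' l1 v = sigR E1 v) ∧ (∀ v, sig e' l2 v = sigR E2 v) ∧
      (∀ v, sig e' l3 v = sigR E3 v) ∧ (∀ v, sig e' a v = sigA v) ∧ ∀ v, sig e' b v = sigB v) ∧
    ((∀ v, kf e' l1 v = Qk E1 (py v)) ∧ (∀ v, kf e' l2 v = Qk E2 (py v)) ∧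
      ∀ v, kf e' l3 v = Qk E3 (py v)) ∧
    (kf e' a (pr 0 E1) = 0 ∧ kf e' b (pr 0 E2) = 0) := by
  obtain ⟨e', T', l1, l2, l3, a, b, ⟨h1, h2, h3, ha, hb⟩, ⟨s1, s2, s3, sa', sb'⟩, ⟨x1, x2, x3⟩,
    ⟨y1, y2, y3⟩, hab⟩ := exists_gauged T
  obtain ⟨⟨a2, a3, a4⟩, ⟨b3, b1, b4⟩, c1, c2, c4⟩ := gen_facts T' h1 h2 h3 s1 s2 s3
  rw [x1, zero_add] at a4
  rw [x2, zero_add] at b4
  rw [x3, zero_add] at c4
  have f1 := kf_form T' h1 (n := E3) (Or.inl ⟨rfl, rfl⟩) s1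
    (by rintro p (rfl | rfl | rfl); exacts [x1, a2, a3]) a4
    (by rintro p (rfl | rfl | rfl) hm hn; exacts [absurd rfl hm, y1, absurd rfl hn])
  have f2 := kf_form T' h2 (n := E1) (Or.inr (Or.inl ⟨rfl, rfl⟩)) s2
    (by rintro p (rfl | rfl | rfl); exacts [b1, x2, b3]) b4
    (by rintro p (rfl | rfl | rfl) hm hn; exacts [absurd rfl hn, absurd rfl hm, y2])
  have f3 := kf_form T' h3 (n := E2) (Or.inr (Or.inr ⟨rfl, rfl⟩)) s3
    (by rintro p (rfl | rfl | rfl); exacts [c1, c2, x3]) c4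
    (by rintro p (rfl | rfl | rfl) hm hn; exacts [y3, absurd rfl hn, absurd rfl hm])
  have key : ∀ {l l' : G}, Lev z e' ρ l → Lev z e' ρ l' → ∀ {m m' n a' b' : V},
      ((m = E1 ∧ m' = E2) ∨ (m = E2 ∧ m' = E3) ∨ (m = E3 ∧ m' = E1)) →
      (m = E1 → n = E3) → (m = E2 → n = E1) → (m = E3 → n = E2) →
      (∀ v, sig e' l v = sigR m v) → (∀ v, sig e' l' v = sigR m' v) →
      (∀ v, tau (pr a' 0) (pr b' 0) v = sigR m (sigR m' v)) →
      (qd (pr a' 0) = 0 ∧ qd (pr b' 0) = 0 ∧ alt (pr a' 0) (pr b' 0) = 0 ∧ pr a' 0 ≠ 0 ∧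
        pr b' 0 ≠ 0 ∧ pr a' 0 ≠ pr b' 0 ∧ qd (pr m (m + m')) = 1 ∧
        alt (pr m (m + m')) (pr a' 0) = 0 ∧ alt (pr m (m + m')) (pr b' 0) = 0) →
      (∀ v, kf e' l v = Qk m (py v) + (kf e' l (pr 0 n) + 1) * dot (py v) n) →
      (∀ v, kf e' l' v = Qk m' (py v) + (kf e' l' (pr 0 m) + 1) * dot (py v) m) →
      kf e' l' (pr 0 m) + 1 = 0 := by
    intro l l' hl hl' m m' n a' b' hmm hn1 hn2 hn3 sl sl' ht hc kl kl'
    have h := kf_tau T' (hl.mul hl') (fun v => by rw [T'.sig_mul hl.1 hl'.1, sl', sl, ht]) hc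
    rw [kf_mul T' hl hl', sl', kl', kl] at h
    exact Qk_sum m m' hmm n hn1 hn2 hn3 _ _ h
  have u2 := key h1 h2 (Or.inl ⟨rfl, rfl⟩) (fun _ => rfl) (fun h => absurd h (by decide))
    (fun h => absurd h (by decide)) s1 s2 tau_one_two (by decide +kernel) f1 f2
  have u3 := key h2 h3 (Or.inr (Or.inl ⟨rfl, rfl⟩)) (fun h => absurd h (by decide)) (fun _ => rfl)
    (fun h => absurd h (by decide)) s2 s3 tau_two_three (by decide +kernel) f2 f3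
  have u1 := key h3 h1 (Or.inr (Or.inr ⟨rfl, rfl⟩)) (fun h => absurd h (by decide))
    (fun h => absurd h (by decide)) (fun _ => rfl) s3 s1 tau_three_one (by decide +kernel) f3 f1
  exact ⟨e', T', l1, l2, l3, a, b, ⟨h1, h2, h3, ha, hb⟩, ⟨s1, s2, s3, sa', sb'⟩,
    ⟨fun v => by rw [f1, u1, zero_mul, add_zero], fun v => by rw [f2, u2, zero_mul, add_zero],
      fun v => by rw [f3, u3, zero_mul, add_zero]⟩, hab⟩

end CfsgLib.Trans3.ConwayM24
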